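import Mathlib
import Groth.Agent.Lib.HilbSam.Poly

/-!
Bookkeeping for lengths of subquotients inside an ambient module.
`relLen Q P` is the length of `(P + Q) / Q`, also when `Q` is not contained in `P`.
-/

set_option autoImplicit false
universe u v w

open Groth.Agent.HilbSam (relLen relLen_trans)

namespace Groth.Agent.KEuler6

variable {A : Type u} [CommRing A] {M : Type v} [AddCommGroup M] [Module A M]
  {N : Type w} [AddCommGroup N] [Module A N]

/-- The length of an image depends only on the source and the kernel. -/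
theorem length_map (g : M →ₗ[A] N) (P : Submodule A M) :
    Module.length A (P.map g) = relLen (LinearMap.ker g) P := by
  let L : M ⧸ LinearMap.ker g →ₗ[A] N := (LinearMap.ker g).liftQ g le_rfl
  have hL : Function.Injective L := LinearMap.ker_eq_bot.1 (Submodule.ker_liftQ_eq_bot _ _ _ le_rfl)
  have e : (P.map (LinearMap.ker g).mkQ).map L = P.map g := by
    rw [← Submodule.map_comp, Submodule.liftQ_mkQ]
  rw [← e]
  exact ((Submodule.equivMapOfInjective L hL _).length_eq).symm

theorem relLen_map (f : M →ₗ[A] N) (Q P : Submodule A M) :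
    relLen (Q.map f) (P.map f) = relLen (Q ⊔ LinearMap.ker f) P := by
  rw [relLen, ← Submodule.map_comp, length_map, LinearMap.ker_comp, Submodule.ker_mkQ,
    Submodule.comap_map_eq]

theorem relLen_map' (f : M →ₗ[A] N) (Q : Submodule A N) (P : Submodule A M) :
    relLen Q (P.map f) = relLen (Q.comap f) P := by
  rw [relLen, ← Submodule.map_comp, length_map, LinearMap.ker_comp, Submodule.ker_mkQ]

theorem relLen_map_injective (f : M →ₗ[A] N) (hf : Function.Injective f) (Q P : Submodule A M) :
    relLen (Q.map f) (P.map f) = relLen Q P := by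
  rw [relLen_map, LinearMap.ker_eq_bot.2 hf, sup_bot_eq]

theorem relLen_sup_right (Q P : Submodule A M) : relLen Q (Q ⊔ P) = relLen Q P := by
  rw [relLen, Submodule.map_sup, Submodule.mkQ_map_self, bot_sup_eq]; rfl

theorem relLen_inf (Q P : Submodule A M) : relLen Q P = relLen (Q ⊓ P) P := by
  have h := length_map (Q.mkQ.comp P.subtype) ⊤
  have h' := length_map ((Q ⊓ P).mkQ.comp P.subtype) ⊤
  rw [Submodule.map_comp, Submodule.map_subtype_top] at h h'
  have e : LinearMap.ker ((Q ⊓ P).mkQ.comp P.subtype) = LinearMap.ker (Q.mkQ.comp P.subtype) := by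
    rw [LinearMap.ker_comp, LinearMap.ker_comp, Submodule.ker_mkQ, Submodule.ker_mkQ,
      Submodule.comap_inf, Submodule.comap_subtype_self, inf_top_eq]
  change Module.length A (P.map Q.mkQ) = Module.length A (P.map (Q ⊓ P).mkQ)
  rw [h, h', e]

theorem relLen_self (Q : Submodule A M) : relLen Q Q = 0 := by
  rw [relLen, Submodule.mkQ_map_self]
  exact Module.length_eq_zero_iff.2 inferInstance

theorem relLen_eq_zero_of_le {Q P : Submodule A M} (h : P ≤ Q) : relLen Q P = 0 := by
  rw [relLen_inf, inf_eq_right.2 h, relLen_self]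

theorem relLen_top (Q : Submodule A M) : relLen Q ⊤ = Module.length A (M ⧸ Q) := by
  rw [relLen, Submodule.map_top, Submodule.range_mkQ, Module.length_top]

theorem relLen_mono_right {Q P P' : Submodule A M} (h : P ≤ P') : relLen Q P ≤ relLen Q P' :=
  Module.length_le_of_injective (Submodule.inclusion (Submodule.map_mono h))
    (Submodule.inclusion_injective _)

theorem relLen_anti_left {Q Q' P : Submodule A M} (h : Q ≤ Q') : relLen Q' P ≤ relLen Q P := by
  rw [← relLen_sup_right Q P, ← relLen_sup_right Q' P]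
  calc relLen Q' (Q' ⊔ P) = relLen Q' (Q' ⊔ (Q ⊔ P)) := by rw [← sup_assoc, sup_eq_left.2 h]
    _ = relLen Q' (Q ⊔ P) := relLen_sup_right _ _
    _ = relLen (Q' ⊓ (Q ⊔ P)) (Q ⊔ P) := relLen_inf _ _
    _ ≤ relLen Q (Q' ⊓ (Q ⊔ P)) + relLen (Q' ⊓ (Q ⊔ P)) (Q ⊔ P) := le_add_self
    _ = relLen Q (Q ⊔ P) := (relLen_trans (le_inf h le_sup_left) inf_le_right).symm

/-- `Z ⊓ (B ⊔ I) = B ⊔ (Z ⊓ I)` for `B ≤ Z`. -/
theorem inf_sup_of_le {B Z : Submodule A M} (h : B ≤ Z) (I : Submodule A M) :
    Z ⊓ (B ⊔ I) = B ⊔ Z ⊓ I := by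
  rw [inf_comm Z (B ⊔ I), sup_inf_assoc_of_le I h, inf_comm I Z]

end Groth.Agent.KEuler6
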