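import Mathlib
import Groth.Agent.Lib.CanElt.Koszul
import Groth.Agent.Lib.KEuler6.Rel

/-!
Cycles, boundaries and homology lengths of the elementary Koszul complex; the contracting homotopy
of multiplication by a member of the sequence; finiteness.
-/

set_option autoImplicit false
universe u

open Groth.Agent.CanElt (KObj kd k0 kd_kd lmap lmap_kd subsingleton_KObj mem_range_kd_zero range_kd_le
  kd_zero_apply kd_succ_apply)
open Groth.Agent.HilbSam (relLen relLen_trans)

namespace Groth.Agent.KEuler6

variable (A : Type u) [CommRing A] (M : Type u) [AddCommGroup M] [Module A M]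

/-- Boundaries. -/
noncomputable def Bd (l : List A) (n : ℕ) : Submodule A (KObj A M l n) := LinearMap.range (kd A M l n)

/-- Cycles. -/
noncomputable def Zy (l : List A) : ∀ n : ℕ, Submodule A (KObj A M l n)
  | 0 => ⊤
  | n + 1 => LinearMap.ker (kd A M l n)

/-- The length of the Koszul homology module. -/
noncomputable def hl (l : List A) (n : ℕ) : ℕ∞ := relLen (Bd A M l n) (Zy A M l n)

theorem Bd_le_Zy (l : List A) : ∀ n, Bd A M l n ≤ Zy A M l n
  | 0 => le_top
  | n + 1 => by
    rintro _ ⟨z, rfl⟩
    exact LinearMap.mem_ker.2 (kd_kd A M l n z)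

/-- Into the first factor. -/
noncomputable def i1 (f : A) (l : List A) (n : ℕ) : KObj A M l (n + 1) →ₗ[A] KObj A M (f :: l) (n + 1) :=
  LinearMap.inl A (KObj A M l (n + 1)) (KObj A M l n)

/-- Into the second factor. -/
noncomputable def i2 (f : A) (l : List A) (n : ℕ) : KObj A M l n →ₗ[A] KObj A M (f :: l) (n + 1) :=
  LinearMap.inr A (KObj A M l (n + 1)) (KObj A M l n)

/-- First projection. -/
noncomputable def p1 (f : A) (l : List A) (n : ℕ) : KObj A M (f :: l) (n + 1) →ₗ[A] KObj A M l (n + 1) :=
  LinearMap.fst A (KObj A M l (n + 1)) (KObj A M l n)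

/-- Second projection. -/
noncomputable def p2 (f : A) (l : List A) (n : ℕ) : KObj A M (f :: l) (n + 1) →ₗ[A] KObj A M l n :=
  LinearMap.snd A (KObj A M l (n + 1)) (KObj A M l n)

theorem i1_injective (f : A) (l : List A) (n : ℕ) : Function.Injective (i1 A M f l n) :=
  LinearMap.inl_injective

theorem p2_surjective (f : A) (l : List A) (n : ℕ) : Function.Surjective (p2 A M f l n) :=
  fun b => ⟨(0, b), rfl⟩

theorem ker_p2 (f : A) (l : List A) (n : ℕ) :
    LinearMap.ker (p2 A M f l n) = LinearMap.range (i1 A M f l n) := by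
  ext ⟨a, b⟩
  constructor
  · intro h
    exact ⟨a, Prod.ext rfl (LinearMap.mem_ker.1 h).symm⟩
  · rintro ⟨a', h⟩
    exact LinearMap.mem_ker.2 (congrArg Prod.snd h).symm

theorem finite_KObj [Module.Finite A M] : ∀ (l : List A) (n : ℕ), Module.Finite A (KObj A M l n)
  | [], 0 => inferInstanceAs (Module.Finite A M)
  | [], _ + 1 => inferInstanceAs (Module.Finite A PUnit.{u + 1})
  | _ :: l, 0 => finite_KObj l 0
  | _ :: l, n + 1 =>
    haveI := finite_KObj l (n + 1)
    haveI := finite_KObj l n
    inferInstanceAs (Module.Finite A (KObj A M l (n + 1) × KObj A M l n))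

theorem smul_eq_zero_of_kill (c : A) (h : ∀ m : M, c • m = 0) :
    ∀ (l : List A) (n : ℕ) (x : KObj A M l n), c • x = 0
  | [], 0, x => h x
  | [], _ + 1, _ => Subsingleton.elim (h := inferInstanceAs (Subsingleton PUnit)) _ _
  | _ :: l, 0, x => smul_eq_zero_of_kill c h l 0 x
  | _ :: l, n + 1, (a, b) =>
    Prod.ext (smul_eq_zero_of_kill c h l (n + 1) a) (smul_eq_zero_of_kill c h l n b)

theorem smul_injective_of_regular (c : A) (h : Function.Injective fun m : M => c • m) :
    ∀ (l : List A) (n : ℕ), Function.Injective fun x : KObj A M l n => c • x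
  | [], 0 => h
  | [], _ + 1 => fun _ _ _ => Subsingleton.elim (h := inferInstanceAs (Subsingleton PUnit)) _ _
  | _ :: l, 0 => smul_injective_of_regular c h l 0
  | _ :: l, n + 1 => fun _ _ e => Prod.ext (smul_injective_of_regular c h l (n + 1) (congrArg Prod.fst e))
      (smul_injective_of_regular c h l n (congrArg Prod.snd e))

/-- Multiplication by a member of the sequence is null-homotopic. -/
theorem exists_homotopy : ∀ (l : List A) (g : A), g ∈ l → ∃ h : ∀ n, KObj A M l n →ₗ[A] KObj A M l (n + 1),
    (∀ z, kd A M l 0 (h 0 z) = g • z) ∧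
      ∀ n z, kd A M l (n + 1) (h (n + 1) z) + h n (kd A M l n z) = g • z
  | f :: l, g, hg => by
    rcases List.mem_cons.1 hg with rfl | hg
    · refine ⟨fun n => match n with
        | 0 => i2 A M g l 0
        | n + 1 => (i2 A M g l (n + 1)).comp (p1 A M g l n), fun z => ?_, fun n => ?_⟩
      · exact (congrArg (· + _) (map_zero (kd A M l 0))).trans (zero_add _)
      · rintro ⟨a, b⟩
        cases n with
        | zero =>
          refine Prod.ext (show kd A M l 1 0 + g • a + 0 = g • a from ?_)
            (show -kd A M l 0 a + (kd A M l 0 a + g • b) = g • b from neg_add_cancel_left _ _)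
          rw [map_zero, zero_add, add_zero]
        | succ n =>
          refine Prod.ext (show kd A M l (n + 2) 0 + g • a + 0 = g • a from ?_)
            (show -kd A M l (n + 1) a + (kd A M l (n + 1) a + g • b) = g • b from neg_add_cancel_left _ _)
          rw [map_zero, zero_add, add_zero]
    · obtain ⟨h, h0, hs⟩ := exists_homotopy l g hg
      refine ⟨fun n => match n with
        | 0 => (i1 A M f l 0).comp (h 0)
        | n + 1 => (i1 A M f l (n + 1)).comp ((h (n + 1)).comp (p1 A M f l n)) -
            (i2 A M f l (n + 1)).comp ((h n).comp (p2 A M f l n)), fun z => ?_, fun n => ?_⟩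
      · exact ((congrArg (kd A M l 0 (h 0 z) + ·) (smul_zero f)).trans (add_zero _)).trans (h0 z)
      · rintro ⟨a, b⟩
        cases n with
        | zero =>
          refine Prod.ext
            (show kd A M l 1 (h 1 a - 0) + f • ((0 : KObj A M l 1) - h 0 b) + h 0 (kd A M l 0 a + f • b) = g • a from ?_)
            (show -kd A M l 0 ((0 : KObj A M l 1) - h 0 b) + 0 = g • b from ?_)
          · rw [sub_zero, zero_sub, map_add, map_smul, smul_neg, ← hs 0 a]
            abel
          · rw [zero_sub, map_neg, neg_neg, h0, add_zero]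
        | succ n =>
          refine Prod.ext
            (show kd A M l (n + 2) (h (n + 2) a - 0) + f • ((0 : KObj A M l (n + 2)) - h (n + 1) b) +
              (h (n + 1) (kd A M l (n + 1) a + f • b) - 0) = g • a from ?_)
            (show -kd A M l (n + 1) ((0 : KObj A M l (n + 2)) - h (n + 1) b) +
              ((0 : KObj A M l (n + 1)) - h n (-kd A M l n b)) = g • b from ?_)
          · rw [sub_zero, sub_zero, zero_sub, map_add, map_smul, smul_neg, ← hs (n + 1) a]
            abel
          · rw [zero_sub, zero_sub, map_neg, map_neg, neg_neg, neg_neg, hs n b]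

theorem smul_mem_Bd {l : List A} {g : A} (hg : g ∈ l) :
    ∀ (n : ℕ) (z : KObj A M l n), z ∈ Zy A M l n → g • z ∈ Bd A M l n := by
  obtain ⟨h, h0, hs⟩ := exists_homotopy A M l g hg
  intro n z hz
  cases n with
  | zero => exact ⟨h 0 z, h0 z⟩
  | succ n =>
    refine ⟨h (n + 1) z, ?_⟩
    rw [← hs n z, LinearMap.mem_ker.1 hz, map_zero, add_zero]

theorem smul_mem_Bd_of_mem {l : List A} {g : A} (hg : g ∈ Ideal.ofList l) (n : ℕ) (z : KObj A M l n)
    (hz : z ∈ Zy A M l n) : g • z ∈ Bd A M l n := by
  induction hg using Submodule.span_induction with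
  | mem a ha => exact smul_mem_Bd A M ha n z hz
  | zero => simp
  | add a b _ _ h1 h2 => rw [add_smul]; exact add_mem h1 h2
  | smul c a _ h1 => rw [smul_eq_mul, mul_smul]; exact Submodule.smul_mem _ _ h1

/-- `V(l)` meets the support only in closed points. -/
def FL (l : List A) : Prop :=
  ∀ p ∈ Module.support A M, Ideal.ofList l ≤ p.asIdeal → p.asIdeal.IsMaximal

theorem FL_iff [IsNoetherianRing A] [Module.Finite A M] (l : List A) :
    FL A M l ↔ IsFiniteLength A (M ⧸ Ideal.ofList l • (⊤ : Submodule A M)) := by
  constructor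
  · intro h
    refine HilbSam.isFiniteLength_of_support fun p hp => ?_
    rw [Module.support_quotient] at hp
    exact h p hp.1 hp.2
  · intro h p hp hl
    refine HilbSam.isMaximal_of_mem_support h ?_
    rw [Module.support_quotient]
    exact ⟨hp, hl⟩

theorem hl_ne_top [IsNoetherianRing A] [Module.Finite A M] {l : List A} (h : FL A M l) (n : ℕ) :
    hl A M l n ≠ ⊤ := by
  haveI := finite_KObj A M l n
  haveI : IsNoetherian A (KObj A M l n) := isNoetherian_of_isNoetherianRing_of_finite A _
  let X := (Zy A M l n).map (Bd A M l n).mkQ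
  change Module.length A X ≠ ⊤
  haveI : Module.Finite A X := Module.Finite.iff_fg.2 (IsNoetherian.noetherian _)
  rw [Module.length_ne_top_iff]
  refine HilbSam.isFiniteLength_of_support fun p hp => ?_
  rw [Module.mem_support_iff_of_finite] at hp
  refine h p ?_ fun g hg => hp (Module.mem_annihilator.2 ?_)
  · rw [Module.mem_support_iff_of_finite]
    intro c hc
    refine hp (Module.mem_annihilator.2 fun x => ?_)
    obtain ⟨y, z, -, rfl⟩ := x
    refine Subtype.ext ?_
    change c • (Bd A M l n).mkQ z = 0
    rw [← map_smul, smul_eq_zero_of_kill A M c (fun m => Module.mem_annihilator.1 hc m), map_zero]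
  · rintro ⟨y, z, hz, rfl⟩
    refine Subtype.ext ?_
    change g • (Bd A M l n).mkQ z = 0
    rw [← map_smul, Submodule.mkQ_apply, Submodule.Quotient.mk_eq_zero]
    exact smul_mem_Bd_of_mem A M hg n z hz

theorem hl_eq_zero_of_lt (l : List A) {n : ℕ} (h : l.length < n) : hl A M l n = 0 := by
  haveI := subsingleton_KObj A M l n h
  exact relLen_eq_zero_of_le fun x _ => by rw [Subsingleton.elim x 0]; exact zero_mem _

theorem hl_zero (l : List A) :
    hl A M l 0 = Module.length A (M ⧸ Ideal.ofList l • (⊤ : Submodule A M)) := by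
  have e : Bd A M l 0 = (Ideal.ofList l • (⊤ : Submodule A M)).comap (k0 A M l).toLinearMap := by
    ext x
    exact mem_range_kd_zero A M l x
  rw [hl, e]
  change relLen _ ⊤ = _
  rw [← relLen_map', Submodule.map_top, LinearEquiv.range, relLen_top]

theorem hl_eq_zero_of_subsingleton [Subsingleton M] (l : List A) (n : ℕ) : hl A M l n = 0 := by
  refine relLen_eq_zero_of_le fun x _ => ?_
  have : x = 0 := by
    have := smul_eq_zero_of_kill A M 1 (fun m => Subsingleton.elim _ _) l n x
    rwa [one_smul] at this
  rw [this]; exact zero_mem _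

end Groth.Agent.KEuler6
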