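import Mathlib
import Groth.Agent.Lib.KEuler6.Basic

/-!
Length decompositions attached to the cone of multiplication by an element and to a short exact
sequence of coefficient modules.
-/

set_option autoImplicit false
universe u

open Groth.Agent.CanElt (KObj kd k0 kd_kd lmap lmap_kd)
open Groth.Agent.HilbSam (relLen relLen_trans)

namespace Groth.Agent.KEuler6

section Cone

variable (A : Type u) [CommRing A] (M : Type u) [AddCommGroup M] [Module A M]

/-- Multiplication by a scalar. -/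
noncomputable def mulC (l : List A) (n : ℕ) (c : A) : KObj A M l n →ₗ[A] KObj A M l n := c • LinearMap.id

theorem mulC_apply (l : List A) (n : ℕ) (c : A) (x : KObj A M l n) : mulC A M l n c x = c • x := rfl

/-- Length of `H_n / c H_n`. -/
noncomputable def cf (c : A) (l : List A) (n : ℕ) : ℕ∞ :=
  relLen (Bd A M l n ⊔ (Zy A M l n).map (mulC A M l n c)) (Zy A M l n)

/-- Length of the kernel of `c` on `H_n`. -/
noncomputable def kf (c : A) (l : List A) (n : ℕ) : ℕ∞ :=
  relLen (Bd A M l n) (Zy A M l n ⊓ (Bd A M l n).comap (mulC A M l n c))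

theorem map_mulC_le (c : A) (l : List A) (n : ℕ) : (Zy A M l n).map (mulC A M l n c) ≤ Zy A M l n := by
  rintro _ ⟨z, hz, rfl⟩
  exact Submodule.smul_mem _ _ hz

theorem cf_le_hl (c : A) (l : List A) (n : ℕ) : cf A M c l n ≤ hl A M l n :=
  relLen_anti_left le_sup_left

theorem kf_le_hl (c : A) (l : List A) (n : ℕ) : kf A M c l n ≤ hl A M l n :=
  relLen_mono_right inf_le_left

theorem cf_of_kill {c : A} (h : ∀ m : M, c • m = 0) (l : List A) (n : ℕ) : cf A M c l n = hl A M l n := by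
  rw [cf, sup_eq_left.2]
  · rfl
  rintro _ ⟨z, -, rfl⟩
  rw [mulC_apply, smul_eq_zero_of_kill A M c h]
  exact zero_mem _

theorem kf_of_kill {c : A} (h : ∀ m : M, c • m = 0) (l : List A) (n : ℕ) : kf A M c l n = hl A M l n := by
  rw [kf, inf_eq_left.2]
  · rfl
  intro z _
  rw [Submodule.mem_comap, mulC_apply, smul_eq_zero_of_kill A M c h]
  exact zero_mem _

theorem cf_one (l : List A) (n : ℕ) : cf A M 1 l n = 0 :=
  relLen_eq_zero_of_le fun z hz => Submodule.mem_sup_right ⟨z, hz, one_smul A z⟩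

theorem kf_one (l : List A) (n : ℕ) : kf A M 1 l n = 0 :=
  relLen_eq_zero_of_le fun z hz => by simpa [mulC_apply] using hz.2

theorem mem_Zy_cons (f : A) (l : List A) (n : ℕ) (a : KObj A M l (n + 1)) (b : KObj A M l n) :
    ((a, b) : KObj A M (f :: l) (n + 1)) ∈ Zy A M (f :: l) (n + 1) ↔
      kd A M l n a + f • b = 0 ∧ b ∈ Zy A M l n := by
  cases n with
  | zero => exact ⟨fun h => ⟨h, trivial⟩, fun h => h.1⟩
  | succ n =>
    constructor
    · intro h
      exact ⟨congrArg Prod.fst h, neg_eq_zero.1 (congrArg Prod.snd h)⟩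
    · intro h
      exact Prod.ext h.1 (neg_eq_zero.2 h.2)

theorem mem_Bd_cons (f : A) (l : List A) (n : ℕ) (a : KObj A M l (n + 1)) (b : KObj A M l n) :
    ((a, b) : KObj A M (f :: l) (n + 1)) ∈ Bd A M (f :: l) (n + 1) ↔
      ∃ a' b', kd A M l (n + 1) a' + f • b' = a ∧ -kd A M l n b' = b :=
  ⟨fun ⟨x, hx⟩ => ⟨x.1, x.2, congrArg Prod.fst hx, congrArg Prod.snd hx⟩,
    fun ⟨a', b', h1, h2⟩ => ⟨(a', b'), Prod.ext h1 h2⟩⟩

theorem hl_cons_zero (f : A) (l : List A) : hl A M (f :: l) 0 = cf A M f l 0 := by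
  have h : (Bd A M (f :: l) 0 : Submodule A (KObj A M l 0)) =
      Bd A M l 0 ⊔ (Zy A M l 0).map (mulC A M l 0 f) := by
    refine le_antisymm ?_ (sup_le ?_ ?_)
    · rintro _ ⟨⟨a, b⟩, rfl⟩
      show kd A M l 0 a + mulC A M l 0 f b ∈ Bd A M l 0 ⊔ (Zy A M l 0).map (mulC A M l 0 f)
      exact Submodule.add_mem_sup ⟨a, rfl⟩ ⟨b, trivial, rfl⟩
    · rintro _ ⟨a, rfl⟩
      exact ⟨(a, 0), (congrArg (kd A M l 0 a + ·) (smul_zero f : f • (0 : KObj A M l 0) = 0)).trans (add_zero _)⟩
    · rintro _ ⟨b, -, rfl⟩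
      exact ⟨(0, b), (congrArg (· + _) (map_zero (kd A M l 0))).trans (zero_add _)⟩
  exact congrArg (fun X : Submodule A (KObj A M l 0) => relLen X ⊤) h

theorem hl_cons_succ (f : A) (l : List A) (n : ℕ) :
    hl A M (f :: l) (n + 1) = cf A M f l (n + 1) + kf A M f l n := by
  set B := Bd A M (f :: l) (n + 1)
  set Z := Zy A M (f :: l) (n + 1)
  set K := LinearMap.ker (p2 A M f l n) with hK
  have h1 : B ≤ B ⊔ Z ⊓ K := le_sup_left
  have h2 : B ⊔ Z ⊓ K ≤ Z := sup_le (Bd_le_Zy A M _ _) inf_le_left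
  rw [hl, relLen_trans h1 h2, relLen_sup_right]
  congr 1
  · have e : Z ⊓ K = (Zy A M l (n + 1)).map (i1 A M f l n) := by
      ext ⟨a, b⟩
      constructor
      · rintro ⟨hz, hb⟩
        obtain rfl : b = 0 := LinearMap.mem_ker.1 hb
        obtain ⟨h, -⟩ := (mem_Zy_cons A M f l n a 0).1 hz
        rw [smul_zero, add_zero] at h
        exact ⟨a, LinearMap.mem_ker.2 h, rfl⟩
      · rintro ⟨a', ha', h⟩
        obtain rfl : a' = a := congrArg Prod.fst h
        obtain rfl : (0 : KObj A M l n) = b := congrArg Prod.snd h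
        refine ⟨(mem_Zy_cons A M f l n a' 0).2 ⟨?_, zero_mem _⟩, LinearMap.mem_ker.2 rfl⟩
        rw [smul_zero, add_zero]
        exact LinearMap.mem_ker.1 ha'
    rw [e, relLen_map']
    refine congrArg (fun X => relLen X (Zy A M l (n + 1))) ?_
    ext a
    constructor
    · intro h
      obtain ⟨a', b', rfl, hb⟩ := (mem_Bd_cons A M f l n a 0).1 h
      exact Submodule.add_mem_sup ⟨a', rfl⟩ ⟨b', LinearMap.mem_ker.2 (neg_eq_zero.1 hb), rfl⟩
    · intro h
      obtain ⟨_, ⟨a', rfl⟩, _, ⟨b', hb', rfl⟩, rfl⟩ := Submodule.mem_sup.1 h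
      exact (mem_Bd_cons A M f l n _ 0).2 ⟨a', b', rfl, neg_eq_zero.2 (LinearMap.mem_ker.1 hb')⟩
  · have e : Z.map (p2 A M f l n) = Zy A M l n ⊓ (Bd A M l n).comap (mulC A M l n f) := by
      ext b
      constructor
      · rintro ⟨⟨a, b'⟩, hz, rfl⟩
        obtain ⟨h, hb⟩ := (mem_Zy_cons A M f l n a b').1 hz
        exact ⟨hb, ⟨-a, by rw [map_neg]; exact neg_eq_of_add_eq_zero_right h⟩⟩
      · rintro ⟨hb, a, ha⟩
        refine ⟨(-a, b), (mem_Zy_cons A M f l n (-a) b).2 ⟨?_, hb⟩, rfl⟩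
        rw [map_neg, ha, mulC_apply, neg_add_cancel]
    have e' : B.map (p2 A M f l n) = Bd A M l n := by
      ext b
      constructor
      · rintro ⟨⟨a, b'⟩, hz, rfl⟩
        obtain ⟨a₀, b₀, -, h⟩ := (mem_Bd_cons A M f l n a b').1 hz
        exact ⟨-b₀, by rw [map_neg]; exact h⟩
      · rintro ⟨b₀, rfl⟩
        exact ⟨(kd A M l (n + 1) 0 + f • -b₀, kd A M l n b₀),
          (mem_Bd_cons A M f l n _ _).2 ⟨0, -b₀, rfl, by rw [map_neg, neg_neg]⟩, rfl⟩
    calc relLen (B ⊔ Z ⊓ K) Z = relLen (B ⊔ K) Z := by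
          rw [relLen_inf (B ⊔ K) Z, inf_comm (B ⊔ K) Z, inf_sup_of_le (Bd_le_Zy A M _ _)]
      _ = relLen (B.map (p2 A M f l n)) (Z.map (p2 A M f l n)) := (relLen_map _ _ _).symm
      _ = _ := by rw [e, e']; rfl

theorem mul_identity (f g : A) (l : List A) (n : ℕ) :
    cf A M (f * g) l n + (kf A M f l n + kf A M g l n) =
      cf A M f l n + cf A M g l n + kf A M (f * g) l n := by
  set B := Bd A M l n
  set Z := Zy A M l n
  set μ := mulC A M l n with hμ
  set Tf := Z ⊓ B.comap (μ f) with hTf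
  set Tg := Z ⊓ B.comap (μ g) with hTg
  set T := Z ⊓ B.comap (μ (f * g)) with hT
  have hBZ : B ≤ Z := Bd_le_Zy A M l n
  have hBT : ∀ c : A, B ≤ Z ⊓ B.comap (μ c) := fun c x hx => ⟨hBZ hx, B.smul_mem c hx⟩
  have hfT : Tf ≤ T := fun x hx => ⟨hx.1, by
    show (f * g) • x ∈ B
    rw [mul_comm, mul_smul]
    exact B.smul_mem g hx.2⟩
  have e1 : T.map (μ f) = Tg ⊓ Z.map (μ f) := by
    ext y
    constructor
    · rintro ⟨x, hx, rfl⟩
      refine ⟨⟨Z.smul_mem f hx.1, ?_⟩, x, hx.1, rfl⟩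
      have : (f * g) • x ∈ B := hx.2
      show g • f • x ∈ B
      rwa [← mul_smul, mul_comm g f]
    · rintro ⟨hy, x, hx, rfl⟩
      refine ⟨x, ⟨hx, ?_⟩, rfl⟩
      have h' : g • f • x ∈ B := hy.2
      show (f * g) • x ∈ B
      rwa [← mul_smul, mul_comm g f] at h' 
  have k1 : kf A M (f * g) l n = kf A M f l n + relLen B (Tg ⊓ (B ⊔ Z.map (μ f))) := by
    change relLen B T = relLen B Tf + _
    rw [relLen_trans (hBT f) hfT]
    congr 1
    calc relLen Tf T = relLen (B.comap (μ f) ⊓ T) T := by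
          congr 1
          exact le_antisymm (le_inf inf_le_right hfT) fun x hx => ⟨hx.2.1, hx.1⟩
      _ = relLen (B.comap (μ f)) T := (relLen_inf _ _).symm
      _ = relLen B (T.map (μ f)) := (relLen_map' _ _ _).symm
      _ = relLen B (B ⊔ Tg ⊓ Z.map (μ f)) := by rw [relLen_sup_right, e1]
      _ = _ := by rw [inf_sup_of_le (hBT g)]
  have k2 : kf A M g l n = relLen B (Tg ⊓ (B ⊔ Z.map (μ f))) + relLen (B ⊔ Z.map (μ f)) Tg := by
    change relLen B Tg = _
    rw [relLen_trans (le_inf (hBT g) le_sup_left) inf_le_left, relLen_inf (B ⊔ Z.map (μ f)), inf_comm (B ⊔ _)]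
  have c1 : cf A M f l n = relLen (B ⊔ Z.map (μ f)) Tg + relLen (Z.map (μ f) ⊔ Tg) Z := by
    change relLen (B ⊔ Z.map (μ f)) Z = _
    rw [relLen_trans (sup_le ((hBT g).trans le_sup_right) le_sup_left : B ⊔ Z.map (μ f) ≤ Z.map (μ f) ⊔ Tg)
      (sup_le (map_mulC_le A M f l n) inf_le_left)]
    congr 1
    rw [← relLen_sup_right _ Tg, sup_comm B, sup_assoc, sup_eq_right.2 (hBT g)]
  have c2 : cf A M (f * g) l n = relLen (Z.map (μ f) ⊔ Tg) Z + cf A M g l n := by
    change relLen (B ⊔ Z.map (μ (f * g))) Z = _ + relLen (B ⊔ Z.map (μ g)) Z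
    have hle : B ⊔ Z.map (μ (f * g)) ≤ B ⊔ Z.map (μ g) := by
      refine sup_le_sup_left ?_ _
      rintro _ ⟨x, hx, rfl⟩
      exact ⟨f • x, Z.smul_mem f hx, by rw [hμ, mulC_apply, mulC_apply, ← mul_smul, mul_comm g f]⟩
    rw [relLen_trans hle (sup_le hBZ (map_mulC_le A M g l n))]
    congr 1
    calc relLen (B ⊔ Z.map (μ (f * g))) (B ⊔ Z.map (μ g))
        = relLen (B ⊔ Z.map (μ (f * g))) (Z.map (μ g)) := by
          rw [← relLen_sup_right _ (Z.map (μ g))]
          congr 1
          exact le_antisymm (sup_le_sup_right le_sup_left _) (sup_le hle le_sup_right)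
      _ = relLen ((B ⊔ Z.map (μ (f * g))).comap (μ g) ⊓ Z) Z := by rw [relLen_map', relLen_inf]
      _ = _ := by
        congr 1
        refine le_antisymm ?_ (sup_le ?_ ?_)
        · rintro a ⟨ha, haZ⟩
          obtain ⟨b, hb, _, ⟨z, hz, rfl⟩, hab⟩ := Submodule.mem_sup.1 ha
          have : a - f • z ∈ Tg := by
            refine ⟨sub_mem haZ (Z.smul_mem f hz), ?_⟩
            show μ g (a - f • z) ∈ B
            rw [map_sub, ← hab]
            have : μ g (f • z) = μ (f * g) z := by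
              rw [hμ, mulC_apply, mulC_apply, ← mul_smul, mul_comm g f]
            rw [this, add_sub_cancel_right]
            exact hb
          have h2 := add_sub_cancel (f • z) a
          rw [← h2]
          exact Submodule.add_mem_sup ⟨z, hz, rfl⟩ this
        · rintro _ ⟨z, hz, rfl⟩
          refine ⟨Submodule.mem_sup_right ⟨z, hz, ?_⟩, Z.smul_mem f hz⟩
          rw [hμ, mulC_apply, mulC_apply, mulC_apply, ← mul_smul, mul_comm g f]
        · exact fun x hx => ⟨Submodule.mem_sup_left hx.2, hx.1⟩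
  rw [k1, k2, c1, c2]
  ac_rfl

end Cone

section SES

variable (A : Type u) [CommRing A] {M M' M'' : Type u} [AddCommGroup M] [Module A M]
  [AddCommGroup M'] [Module A M'] [AddCommGroup M''] [Module A M'']

theorem ker_lmap_eq_range {i : M' →ₗ[A] M} {p : M →ₗ[A] M''} (h : LinearMap.ker p = LinearMap.range i) :
    ∀ (l : List A) (n : ℕ), LinearMap.ker (lmap p l n) = LinearMap.range (lmap i l n)
  | [], 0 => h
  | [], _ + 1 => Submodule.ext fun x =>
      ⟨fun _ => ⟨0, Subsingleton.elim (h := inferInstanceAs (Subsingleton PUnit)) _ _⟩,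
        fun _ => LinearMap.mem_ker.2 (Subsingleton.elim (h := inferInstanceAs (Subsingleton PUnit)) _ _)⟩
  | _ :: l, 0 => ker_lmap_eq_range h l 0
  | _ :: l, n + 1 => Submodule.ext fun (a, b) => by
    constructor
    · intro hx
      replace hx := LinearMap.mem_ker.1 hx
      obtain ⟨a', ha⟩ := (ker_lmap_eq_range h l (n + 1)).le (LinearMap.mem_ker.2 (congrArg Prod.fst hx))
      obtain ⟨b', hb⟩ := (ker_lmap_eq_range h l n).le (LinearMap.mem_ker.2 (congrArg Prod.snd hx))
      exact ⟨(a', b'), Prod.ext ha hb⟩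
    · rintro ⟨⟨a', b'⟩, hx⟩
      exact LinearMap.mem_ker.2 (Prod.ext
        (LinearMap.mem_ker.1 ((ker_lmap_eq_range h l (n + 1)).ge ⟨a', congrArg Prod.fst hx⟩))
        (LinearMap.mem_ker.1 ((ker_lmap_eq_range h l n).ge ⟨b', congrArg Prod.snd hx⟩)))

theorem lmap_injective' (i : M' →ₗ[A] M) (hi : Function.Injective i) :
    ∀ (l : List A) (n : ℕ), Function.Injective (lmap i l n)
  | [], 0 => hi
  | [], _ + 1 => fun _ _ _ => Subsingleton.elim (h := inferInstanceAs (Subsingleton PUnit)) _ _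
  | _ :: l, 0 => lmap_injective' i hi l 0
  | _ :: l, n + 1 => fun _ _ e => Prod.ext (lmap_injective' i hi l (n + 1) (congrArg Prod.fst e))
      (lmap_injective' i hi l n (congrArg Prod.snd e))

theorem lmap_surjective' (p : M →ₗ[A] M'') (hp : Function.Surjective p) :
    ∀ (l : List A) (n : ℕ), Function.Surjective (lmap p l n)
  | [], 0 => hp
  | [], _ + 1 => fun _ => ⟨0, Subsingleton.elim (h := inferInstanceAs (Subsingleton PUnit)) _ _⟩
  | _ :: l, 0 => lmap_surjective' p hp l 0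
  | _ :: l, n + 1 => fun y => by
    obtain ⟨a, ha⟩ := lmap_surjective' p hp l (n + 1) y.1
    obtain ⟨b, hb⟩ := lmap_surjective' p hp l n y.2
    exact ⟨(a, b), Prod.ext ha hb⟩

theorem lmap_smul_id (c : A) : ∀ (l : List A) (n : ℕ),
    lmap (c • LinearMap.id : M →ₗ[A] M) l n = mulC A M l n c
  | [], 0 => rfl
  | [], _ + 1 => LinearMap.ext fun _ => Subsingleton.elim (h := inferInstanceAs (Subsingleton PUnit)) _ _
  | _ :: l, 0 => lmap_smul_id c l 0
  | _ :: l, n + 1 => LinearMap.ext fun (a, b) =>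
    Prod.ext (LinearMap.congr_fun (lmap_smul_id c l (n + 1)) a) (LinearMap.congr_fun (lmap_smul_id c l n) b)

/-- `(B ∩ I) / dI`. -/
noncomputable def aS (i : M' →ₗ[A] M) (l : List A) (n : ℕ) : ℕ∞ :=
  relLen ((LinearMap.range (lmap i l (n + 1))).map (kd A M l n)) (Bd A M l n ⊓ LinearMap.range (lmap i l n))

/-- The image of the homology of the submodule. -/
noncomputable def bS (i : M' →ₗ[A] M) (l : List A) (n : ℕ) : ℕ∞ :=
  relLen (Bd A M l n) (Zy A M l n ⊓ LinearMap.range (lmap i l n))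

/-- The cokernel of the map from the homology of the submodule. -/
noncomputable def cS (i : M' →ₗ[A] M) (l : List A) (n : ℕ) : ℕ∞ :=
  relLen (Bd A M l n ⊔ Zy A M l n ⊓ LinearMap.range (lmap i l n)) (Zy A M l n)

theorem hl_mid (i : M' →ₗ[A] M) (l : List A) (n : ℕ) : hl A M l n = bS A i l n + cS A i l n := by
  rw [hl, relLen_trans le_sup_left (sup_le (Bd_le_Zy A M l n) inf_le_left), relLen_sup_right]
  rfl

variable {A}

theorem hl_sub {i : M' →ₗ[A] M} (hi : Function.Injective i) (l : List A) (n : ℕ) :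
    hl A M' l n = aS A i l n + bS A i l n := by
  set I := LinearMap.range (lmap i l n)
  set B := Bd A M l n
  set Z := Zy A M l n
  have eB : (Bd A M' l n).map (lmap i l n) = (LinearMap.range (lmap i l (n + 1))).map (kd A M l n) := by
    rw [Bd, LinearMap.range_eq_map, ← Submodule.map_comp, LinearMap.range_eq_map, ← Submodule.map_comp]
    congr 1
    exact LinearMap.ext fun z => lmap_kd i l n z
  have eZ : (Zy A M' l n).map (lmap i l n) = Z ⊓ I := by
    cases n with
    | zero =>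
      change Submodule.map _ ⊤ = ⊤ ⊓ _
      rw [top_inf_eq, Submodule.map_top]
    | succ n =>
      refine le_antisymm ?_ ?_
      · rintro _ ⟨z, hz, rfl⟩
        refine ⟨LinearMap.mem_ker.2 ?_, z, rfl⟩
        rw [← lmap_kd, LinearMap.mem_ker.1 hz, map_zero]
      · rintro _ ⟨hy, z, rfl⟩
        refine ⟨z, LinearMap.mem_ker.2 (lmap_injective' A i hi l n ?_), rfl⟩
        rw [lmap_kd, LinearMap.mem_ker.1 hy, map_zero]
  have hle : (LinearMap.range (lmap i l (n + 1))).map (kd A M l n) ≤ B ⊓ I := by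
    rintro _ ⟨_, ⟨z, rfl⟩, rfl⟩
    exact ⟨⟨_, rfl⟩, ⟨kd A M' l n z, lmap_kd i l n z⟩⟩
  have hBZ : B ≤ Z := Bd_le_Zy A M l n
  rw [hl, ← relLen_map_injective _ (lmap_injective' A i hi l n), eB, eZ,
    relLen_trans hle (inf_le_inf_right I hBZ)]
  congr 1
  change _ = relLen B (Z ⊓ I)
  rw [relLen_inf B (Z ⊓ I), ← inf_assoc, inf_eq_left.2 hBZ]

theorem relLen_comap_surjective {P N : Type u} [AddCommGroup P] [Module A P] [AddCommGroup N] [Module A N]
    (f : P →ₗ[A] N) (hf : Function.Surjective f) (Q R : Submodule A N) :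
    relLen Q R = relLen (Q.comap f) (R.comap f) := by
  rw [← relLen_map', Submodule.map_comap_eq_of_surjective hf]

variable {i : M' →ₗ[A] M} {p : M →ₗ[A] M''}

theorem comap_Bd (hp : Function.Surjective p) (h : LinearMap.ker p = LinearMap.range i) (l : List A) (n : ℕ) :
    (Bd A M'' l n).comap (lmap p l n) = Bd A M l n ⊔ LinearMap.range (lmap i l n) := by
  have : Bd A M'' l n = (Bd A M l n).map (lmap p l n) := by
    refine le_antisymm ?_ ?_
    · rintro _ ⟨z, rfl⟩
      obtain ⟨w, rfl⟩ := lmap_surjective' A p hp l (n + 1) z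
      exact ⟨kd A M l n w, ⟨w, rfl⟩, lmap_kd p l n w⟩
    · rintro _ ⟨_, ⟨w, rfl⟩, rfl⟩
      exact ⟨_, (lmap_kd p l n w).symm⟩
  rw [this, Submodule.comap_map_eq, ker_lmap_eq_range A h]

theorem hl_quot_zero (hp : Function.Surjective p) (h : LinearMap.ker p = LinearMap.range i) (l : List A) :
    hl A M'' l 0 = cS A i l 0 := by
  rw [hl, relLen_comap_surjective _ (lmap_surjective' A p hp l 0), comap_Bd hp h]
  change relLen _ (Submodule.comap _ ⊤) = relLen (_ ⊔ ⊤ ⊓ _) ⊤
  rw [Submodule.comap_top, top_inf_eq]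

theorem hl_quot_succ (hp : Function.Surjective p) (h : LinearMap.ker p = LinearMap.range i) (l : List A)
    (n : ℕ) : hl A M'' l (n + 1) = cS A i l (n + 1) + aS A i l n := by
  set I := LinearMap.range (lmap i l (n + 1))
  set I₀ := LinearMap.range (lmap i l n)
  set B := Bd A M l (n + 1)
  set Z := Zy A M l (n + 1) with hZ
  have eD : (Zy A M'' l (n + 1)).comap (lmap p l (n + 1)) = I₀.comap (kd A M l n) := by
    ext z
    change kd A M'' l n (lmap p l (n + 1) z) = 0 ↔ _
    rw [← lmap_kd, Submodule.mem_comap, ← LinearMap.mem_ker, ker_lmap_eq_range A h]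
  have hBZ : B ≤ Z := Bd_le_Zy A M l (n + 1)
  have hID : Z ⊔ I ≤ I₀.comap (kd A M l n) := by
    refine sup_le (fun z hz => ?_) ?_
    · rw [Submodule.mem_comap, LinearMap.mem_ker.1 hz]; exact zero_mem _
    · rintro _ ⟨z, rfl⟩
      exact ⟨kd A M' l n z, lmap_kd i l n z⟩
  rw [hl, relLen_comap_surjective _ (lmap_surjective' A p hp l (n + 1)), comap_Bd hp h, eD,
    relLen_trans (sup_le_sup_right hBZ I) hID]
  congr 1
  · calc relLen (B ⊔ I) (Z ⊔ I) = relLen (B ⊔ I) Z := by
          rw [← relLen_sup_right (B ⊔ I) Z]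
          congr 1
          exact le_antisymm (sup_le le_sup_right (le_sup_right.trans le_sup_left))
            (sup_le (sup_le_sup_right hBZ I) le_sup_left)
      _ = relLen ((B ⊔ I) ⊓ Z) Z := relLen_inf _ _
      _ = _ := by rw [inf_comm, inf_sup_of_le hBZ]; rfl
  · rw [aS, Bd, ← Submodule.map_comap_eq, relLen_map, sup_comm]
    rfl

/-- A regular element can be peeled off the sequence. -/
theorem hl_cons_regular {f : A} (hf : Function.Injective fun m : M => f • m) (hp : Function.Surjective p)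
    (h : LinearMap.ker p = LinearMap.range (f • LinearMap.id : M →ₗ[A] M)) (l : List A) (n : ℕ) :
    hl A M (f :: l) n = hl A M'' l n := by
  have hI : ∀ k, LinearMap.range (lmap (f • LinearMap.id : M →ₗ[A] M) l k) =
      LinearMap.range (mulC A M l k f) := fun k => by rw [lmap_smul_id]
  have hinj : ∀ k, Function.Injective (mulC A M l k f) := smul_injective_of_regular A M f hf l
  have hc : ∀ k, cS A (f • LinearMap.id : M →ₗ[A] M) l k = cf A M f l k := fun k => by
    rw [cS, cf, hI]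
    refine congrArg (fun X => relLen (Bd A M l k ⊔ X) _) ?_
    refine le_antisymm ?_ (le_inf (map_mulC_le A M f l k) (LinearMap.map_le_range))
    rintro _ ⟨hy, x, rfl⟩
    refine ⟨x, ?_, rfl⟩
    cases k with
    | zero => trivial
    | succ k =>
      refine LinearMap.mem_ker.2 (hinj k ?_)
      rw [mulC_apply, ← map_smul, map_zero]
      exact LinearMap.mem_ker.1 hy
  have ha : ∀ k, aS A (f • LinearMap.id : M →ₗ[A] M) l k = kf A M f l k := fun k => by
    rw [aS, kf, hI, hI]
    have e1 : (LinearMap.range (mulC A M l (k + 1) f)).map (kd A M l k) = (Bd A M l k).map (mulC A M l k f) := by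
      rw [Bd, LinearMap.range_eq_map, LinearMap.range_eq_map, ← Submodule.map_comp, ← Submodule.map_comp]
      congr 1
      exact LinearMap.ext fun z => map_smul (kd A M l k) f z
    have e2 : Zy A M l k ⊓ (Bd A M l k).comap (mulC A M l k f) = (Bd A M l k).comap (mulC A M l k f) := by
      refine inf_eq_right.2 fun x hx => ?_
      cases k with
      | zero => trivial
      | succ k =>
        refine LinearMap.mem_ker.2 (hinj k ?_)
        rw [mulC_apply, ← map_smul, map_zero]
        exact LinearMap.mem_ker.1 (Bd_le_Zy A M l (k + 1) hx)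
    rw [e1, e2, inf_comm, ← Submodule.map_comap_eq, relLen_map_injective _ (hinj k)]
  cases n with
  | zero => rw [hl_cons_zero, hl_quot_zero hp h, hc]
  | succ n => rw [hl_cons_succ, hl_quot_succ hp h, hc, ha]

end SES

end Groth.Agent.KEuler6
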