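import Mathlib
import Groth.Agent.Lib.KEuler6.Seq
import Groth.Agent.Lib.HilbSam.Param

/-!
The Koszul Euler characteristic: additivity, multiplicativity in the sequence, dévissage.
-/

set_option autoImplicit false
universe u

open Groth.Agent.CanElt (KObj kd subsingleton_KObj)
open Groth.Agent.HilbSam (relLen relLen_trans)
open Finset TensorProduct Pointwise

namespace Groth.Agent.KEuler6

variable {A : Type u} [CommRing A]

section FLLemmas

variable {M N : Type u} [AddCommGroup M] [Module A M] [AddCommGroup N] [Module A N]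

theorem FL.of_support_subset {l : List A} (h : FL A M l) (hs : Module.support A N ⊆ Module.support A M) :
    FL A N l := fun p hp hl => h p (hs hp) hl

theorem FL.of_injective {l : List A} (h : FL A M l) (f : N →ₗ[A] M) (hf : Function.Injective f) : FL A N l :=
  h.of_support_subset (Module.support_subset_of_injective f hf)

theorem FL.of_surjective {l : List A} (h : FL A M l) (f : M →ₗ[A] N) (hf : Function.Surjective f) : FL A N l :=
  h.of_support_subset (Module.support_subset_of_surjective f hf)

theorem FL.of_zeroLocus {l l' : List A} (h : FL A M l)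
    (hV : ∀ p : PrimeSpectrum A, Ideal.ofList l' ≤ p.asIdeal → Ideal.ofList l ≤ p.asIdeal) : FL A M l' :=
  fun p hp hl => h p hp (hV p hl)

theorem ofList_cons_le {f : A} {l : List A} {I : Ideal A} :
    Ideal.ofList (f :: l) ≤ I ↔ f ∈ I ∧ Ideal.ofList l ≤ I := by
  rw [Ideal.ofList_cons, sup_le_iff, Ideal.span_singleton_le_iff_mem]

theorem FL.cons {f : A} {l : List A} (h : FL A M l) : FL A M (f :: l) :=
  h.of_zeroLocus fun _ hp => (ofList_cons_le.1 hp).2

theorem FL.tail_of_kill {f : A} {l : List A} (h : FL A M (f :: l)) (hf : ∀ m : M, f • m = 0) : FL A M l :=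
  fun p hp hl => h p hp (ofList_cons_le.2
    ⟨Module.annihilator_le_of_mem_support hp (Module.mem_annihilator.2 hf), hl⟩)

theorem FL.mul_cons {x y : A} {l : List A} (hx : FL A M (x :: l)) (hy : FL A M (y :: l)) :
    FL A M (x * y :: l) := fun p hp hl => by
  obtain ⟨h1, h2⟩ := ofList_cons_le.1 hl
  rcases p.2.mem_or_mem h1 with h | h
  · exact hx p hp (ofList_cons_le.2 ⟨h, h2⟩)
  · exact hy p hp (ofList_cons_le.2 ⟨h, h2⟩)

theorem FL.pow_cons {f : A} {l : List A} (h : FL A M (f :: l)) (k : ℕ) : FL A M (f ^ k :: l) :=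
  h.of_zeroLocus fun p hp => by
    obtain ⟨h1, h2⟩ := ofList_cons_le.1 hp
    exact ofList_cons_le.2 ⟨p.2.mem_of_pow_mem k h1, h2⟩

theorem mem_support_quotSMulTop [Module.Finite A M] {f : A} {p : PrimeSpectrum A}
    (hp : p ∈ Module.support A (QuotSMulTop f M)) : p ∈ Module.support A M ∧ f ∈ p.asIdeal := by
  rw [Module.support_quotSMulTop] at hp
  exact ⟨hp.1, hp.2 rfl⟩

theorem FL.quotSMulTop [Module.Finite A M] {f : A} {l : List A} (h : FL A M (f :: l)) :
    FL A (QuotSMulTop f M) l := fun p hp hl =>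
  h p (mem_support_quotSMulTop hp).1 (ofList_cons_le.2 ⟨(mem_support_quotSMulTop hp).2, hl⟩)

theorem FL.map_pow {l : List A} (h : FL A M l) (N₀ : ℕ) : FL A M (l.map (· ^ N₀)) :=
  h.of_zeroLocus fun p hp => Ideal.span_le.2 fun a ha =>
    p.2.mem_of_pow_mem N₀ (hp (Ideal.subset_span (List.mem_map.2 ⟨a, ha, rfl⟩)))

end FLLemmas

section Congr

variable {M N : Type u} [AddCommGroup M] [Module A M] [AddCommGroup N] [Module A N]

theorem hl_congr (e : M ≃ₗ[A] N) (l : List A) (n : ℕ) : hl A M l n = hl A N l n := by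
  have hsurj : ∀ k, LinearMap.range (Groth.Agent.CanElt.lmap e.toLinearMap l k) = ⊤ := fun k =>
    LinearMap.range_eq_top.2 (lmap_surjective' A e.toLinearMap e.surjective l k)
  rw [hl_sub (i := e.toLinearMap) e.injective, hl_mid A e.toLinearMap]
  have ha : aS A e.toLinearMap l n = 0 := by
    rw [aS, hsurj, hsurj, Submodule.map_top, inf_top_eq]
    exact relLen_self _
  have hc : cS A e.toLinearMap l n = 0 := by
    rw [cS, hsurj, inf_top_eq]
    exact relLen_eq_zero_of_le le_sup_right
  rw [ha, hc, zero_add, add_zero]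

theorem ker_mkQ_quotSMulTop (f : A) :
    LinearMap.ker (Submodule.mkQ (f • (⊤ : Submodule A M))) = LinearMap.range (f • LinearMap.id : M →ₗ[A] M) := by
  rw [Submodule.ker_mkQ]
  ext m
  constructor
  · intro h
    obtain ⟨x, -, rfl⟩ := (Submodule.mem_smul_pointwise_iff_exists _ _ _).1 h
    exact ⟨x, rfl⟩
  · rintro ⟨x, rfl⟩
    exact Submodule.smul_mem_pointwise_smul x f ⊤ trivial

theorem hl_cons_eq_quotSMulTop {f : A} (hf : Function.Injective fun m : M => f • m) (l : List A) (n : ℕ) :
    hl A M (f :: l) n = hl A (QuotSMulTop f M) l n :=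
  hl_cons_regular hf (Submodule.mkQ_surjective _) (ker_mkQ_quotSMulTop f) l n

theorem hl_le_of_ses {P : Type u} [AddCommGroup P] [Module A P] {i : M →ₗ[A] N} {p : N →ₗ[A] P}
    (hi : Function.Injective i) (hp : Function.Surjective p) (h : Function.Exact i p) (l : List A) (n : ℕ) :
    hl A N l n ≤ hl A M l n + hl A P l n := by
  rw [hl_mid A i, hl_sub hi]
  refine add_le_add le_add_self ?_
  cases n with
  | zero => exact (hl_quot_zero hp (LinearMap.exact_iff.1 h) l).ge
  | succ n =>
    rw [hl_quot_succ hp (LinearMap.exact_iff.1 h)]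
    exact le_self_add

end Congr

section Chi

variable (A) (M : Type u) [AddCommGroup M] [Module A M]

/-- Truncated alternating sum. -/
noncomputable def chiN (l : List A) (N : ℕ) : ℤ :=
  ∑ n ∈ range N, (-1 : ℤ) ^ n * ((hl A M l n).toNat : ℤ)

/-- The Koszul Euler characteristic. -/
noncomputable def chi (l : List A) : ℤ := chiN A M l (l.length + 1)

theorem chiN_eq_chi (l : List A) {N : ℕ} (h : l.length + 1 ≤ N) : chiN A M l N = chi A M l := by
  obtain ⟨k, rfl⟩ := Nat.exists_eq_add_of_le h
  rw [chi, chiN, chiN, Finset.sum_range_add, add_eq_left]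
  refine Finset.sum_eq_zero fun j _ => ?_
  rw [hl_eq_zero_of_lt A M l (by omega)]
  simp

variable {A M}

theorem chi_nil : chi A M [] = ((Module.length A M).toNat : ℤ) := by
  have e : hl A M [] 0 = Module.length A M := by
    rw [hl_zero, Ideal.ofList_nil, Submodule.bot_smul]
    exact (Submodule.quotEquivOfEqBot _ rfl).length_eq
  simp [chi, chiN, e]

theorem chi_of_subsingleton [Subsingleton M] (l : List A) : chi A M l = 0 := by
  simp [chi, chiN, hl_eq_zero_of_subsingleton]

theorem chi_congr {N : Type u} [AddCommGroup N] [Module A N] (e : M ≃ₗ[A] N) (l : List A) :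
    chi A M l = chi A N l := by
  simp [chi, chiN, hl_congr e]

variable [IsNoetherianRing A] [Module.Finite A M]

theorem chi_cons {f : A} {l : List A} (h : FL A M (f :: l)) :
    chi A M (f :: l) = ∑ n ∈ range (l.length + 2),
      (-1 : ℤ) ^ n * (((cf A M f l n).toNat : ℤ) - (kf A M f l n).toNat) := by
  have hfin := hl_ne_top A M h
  have hc : ∀ n, cf A M f l n ≠ ⊤ := fun n => by
    cases n with
    | zero => rw [← hl_cons_zero]; exact hfin 0
    | succ n => exact ne_top_of_le_ne_top (hfin (n + 1)) (by rw [hl_cons_succ]; exact le_self_add)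
  have hk : ∀ n, kf A M f l n ≠ ⊤ := fun n =>
    ne_top_of_le_ne_top (hfin (n + 1)) (by rw [hl_cons_succ]; exact le_add_self)
  have hs : ∀ n, ((hl A M (f :: l) (n + 1)).toNat : ℤ) =
      ((cf A M f l (n + 1)).toNat : ℤ) + (kf A M f l n).toNat := fun n => by
    rw [hl_cons_succ, ENat.toNat_add (hc _) (hk _)]
    push_cast
    rfl
  have hk0 : kf A M f l (l.length + 1) = 0 :=
    le_antisymm ((kf_le_hl A M f l _).trans (hl_eq_zero_of_lt A M l (Nat.lt_succ_self _)).le) zero_le
  rw [show chi A M (f :: l) = ∑ n ∈ range (l.length + 2), (-1 : ℤ) ^ n * ((hl A M (f :: l) n).toNat : ℤ) from rfl]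
  simp only [mul_sub, Finset.sum_sub_distrib]
  rw [Finset.sum_range_succ', Finset.sum_range_succ' (fun n => (-1 : ℤ) ^ n * ((cf A M f l n).toNat : ℤ)),
    Finset.sum_range_succ (fun n => (-1 : ℤ) ^ n * ((kf A M f l n).toNat : ℤ)) (l.length + 1), hk0, hl_cons_zero]
  simp only [hs, mul_add, Finset.sum_add_distrib, pow_succ, mul_neg, mul_one, neg_mul, Finset.sum_neg_distrib,
    ENat.toNat_zero, Nat.cast_zero, mul_zero, neg_zero, add_zero]
  ring

theorem chi_cons_of_kill {f : A} {l : List A} (h : FL A M (f :: l)) (hf : ∀ m : M, f • m = 0) :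
    chi A M (f :: l) = 0 := by
  rw [chi_cons h]
  exact Finset.sum_eq_zero fun n _ => by rw [cf_of_kill A M hf, kf_of_kill A M hf, sub_self, mul_zero]

theorem chi_cons_one (l : List A) : chi A M (1 :: l) = 0 := by
  have h : FL A M (1 :: l) := fun p _ hl => absurd ((ofList_cons_le.1 hl).1) (fun h1 =>
    p.2.ne_top ((Ideal.eq_top_iff_one _).2 h1))
  rw [chi_cons h]
  exact Finset.sum_eq_zero fun n _ => by rw [cf_one, kf_one, sub_self, mul_zero]

omit [IsNoetherianRing A] [Module.Finite A M] in
theorem chi_cons_regular {f : A} (hf : Function.Injective fun m : M => f • m) (l : List A) :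
    chi A M (f :: l) = chi A (QuotSMulTop f M) l := by
  rw [← chiN_eq_chi A (QuotSMulTop f M) l (Nat.le_succ (l.length + 1)), chi, chiN, chiN]
  refine Finset.sum_congr rfl fun n _ => ?_
  rw [hl_cons_eq_quotSMulTop hf]

theorem chi_mul {x y : A} {l : List A} (hx : FL A M (x :: l)) (hy : FL A M (y :: l)) :
    chi A M (x * y :: l) = chi A M (x :: l) + chi A M (y :: l) := by
  rw [chi_cons hx, chi_cons hy, chi_cons (hx.mul_cons hy), ← Finset.sum_add_distrib]
  refine Finset.sum_congr rfl fun n _ => ?_
  have fin : ∀ {z : A}, FL A M (z :: l) → cf A M z l n ≠ ⊤ ∧ kf A M z l n ≠ ⊤ := fun {z} hz => by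
    refine ⟨?_, ne_top_of_le_ne_top (hl_ne_top A M hz (n + 1)) (by rw [hl_cons_succ]; exact le_add_self)⟩
    cases n with
    | zero => rw [← hl_cons_zero]; exact hl_ne_top A M hz 0
    | succ n => exact ne_top_of_le_ne_top (hl_ne_top A M hz (n + 1)) (by rw [hl_cons_succ]; exact le_self_add)
  obtain ⟨a1, b1⟩ := fin hx
  obtain ⟨a2, b2⟩ := fin hy
  obtain ⟨a3, b3⟩ := fin (hx.mul_cons hy)
  obtain ⟨c1, e1⟩ := ENat.ne_top_iff_exists.1 a1
  obtain ⟨c2, e2⟩ := ENat.ne_top_iff_exists.1 a2
  obtain ⟨c3, e3⟩ := ENat.ne_top_iff_exists.1 a3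
  obtain ⟨k1, g1⟩ := ENat.ne_top_iff_exists.1 b1
  obtain ⟨k2, g2⟩ := ENat.ne_top_iff_exists.1 b2
  obtain ⟨k3, g3⟩ := ENat.ne_top_iff_exists.1 b3
  have key := mul_identity A M x y l n
  rw [← e1, ← e2, ← e3, ← g1, ← g2, ← g3] at key ⊢
  have key' : c3 + (k1 + k2) = c1 + c2 + k3 := by exact_mod_cast key
  simp only [ENat.toNat_natCast]
  rw [← mul_add]
  congr 1
  omega

theorem chi_cons_pow {f : A} {l : List A} (h : FL A M (f :: l)) :
    ∀ k : ℕ, chi A M (f ^ k :: l) = k * chi A M (f :: l)
  | 0 => by rw [pow_zero, chi_cons_one, Nat.cast_zero, zero_mul]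
  | k + 1 => by
    rw [pow_succ, chi_mul (h.pow_cons k) h, chi_cons_pow h k]
    push_cast
    ring

variable {M' M'' : Type u} [AddCommGroup M'] [Module A M'] [Module.Finite A M'] [AddCommGroup M'']
  [Module A M''] [Module.Finite A M'']

theorem chi_add {i : M' →ₗ[A] M} {p : M →ₗ[A] M''} (hi : Function.Injective i) (hp : Function.Surjective p)
    (h : Function.Exact i p) {l : List A} (hM : FL A M l) :
    chi A M l = chi A M' l + chi A M'' l := by
  have hk := LinearMap.exact_iff.1 h
  have hM' : FL A M' l := hM.of_injective i hi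
  have f0 := hl_ne_top A M hM
  have f1 := hl_ne_top A M' hM'
  have ha : ∀ n, aS A i l n ≠ ⊤ := fun n =>
    ne_top_of_le_ne_top (f1 n) (by rw [hl_sub hi]; exact le_self_add)
  have hb : ∀ n, bS A i l n ≠ ⊤ := fun n =>
    ne_top_of_le_ne_top (f1 n) (by rw [hl_sub hi]; exact le_add_self)
  have hc : ∀ n, cS A i l n ≠ ⊤ := fun n =>
    ne_top_of_le_ne_top (f0 n) (by rw [hl_mid A i]; exact le_add_self)
  have e0 : ∀ n, ((hl A M l n).toNat : ℤ) = (bS A i l n).toNat + (cS A i l n).toNat := fun n => by
    rw [hl_mid A i, ENat.toNat_add (hb n) (hc n)]; push_cast; rfl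
  have e1 : ∀ n, ((hl A M' l n).toNat : ℤ) = (aS A i l n).toNat + (bS A i l n).toNat := fun n => by
    rw [hl_sub hi, ENat.toNat_add (ha n) (hb n)]; push_cast; rfl
  have e2 : ∀ n, ((hl A M'' l (n + 1)).toNat : ℤ) = (cS A i l (n + 1)).toNat + (aS A i l n).toNat := fun n => by
    rw [hl_quot_succ hp hk, ENat.toNat_add (hc _) (ha n)]; push_cast; rfl
  have a0 : aS A i l (l.length + 1) = 0 := by
    refine le_antisymm ?_ zero_le
    calc aS A i l (l.length + 1) ≤ hl A M' l (l.length + 1) := by rw [hl_sub hi]; exact le_self_add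
      _ = 0 := hl_eq_zero_of_lt A M' l (Nat.lt_succ_self _)
  rw [← chiN_eq_chi A M l (Nat.le_succ (l.length + 1)), ← chiN_eq_chi A M' l (Nat.le_succ (l.length + 1)),
    ← chiN_eq_chi A M'' l (Nat.le_succ (l.length + 1)), chiN, chiN, chiN]
  simp only [e0, e1, mul_add, Finset.sum_add_distrib]
  rw [Finset.sum_range_succ' (fun n => (-1 : ℤ) ^ n * ((hl A M'' l n).toNat : ℤ)),
    Finset.sum_range_succ' (fun n => (-1 : ℤ) ^ n * ((cS A i l n).toNat : ℤ)),
    Finset.sum_range_succ (fun n => (-1 : ℤ) ^ n * ((aS A i l n).toNat : ℤ)) (l.length + 1), a0,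
    hl_quot_zero hp hk]
  simp only [e2, mul_add, Finset.sum_add_distrib, pow_succ, mul_neg, mul_one, neg_mul, Finset.sum_neg_distrib,
    ENat.toNat_zero, Nat.cast_zero, mul_zero, add_zero]
  ring

end Chi

/-- Dévissage for modules with `V(l)` meeting the support in closed points. -/
theorem devissage [IsNoetherianRing A] {l : List A}
    {P : ∀ (M : Type u) [AddCommGroup M] [Module A M], Prop}
    (zero : ∀ (M : Type u) [AddCommGroup M] [Module A M] [Subsingleton M], P M)
    (prime : ∀ (M : Type u) [AddCommGroup M] [Module A M] [Module.Finite A M], FL A M l →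
      ∀ p : PrimeSpectrum A, (M ≃ₗ[A] A ⧸ p.asIdeal) → P M)
    (ext : ∀ (M₁ : Type u) [AddCommGroup M₁] [Module A M₁] [Module.Finite A M₁]
      (M : Type u) [AddCommGroup M] [Module A M] [Module.Finite A M]
      (M₃ : Type u) [AddCommGroup M₃] [Module A M₃] [Module.Finite A M₃]
      (i : M₁ →ₗ[A] M) (p : M →ₗ[A] M₃), Function.Injective i → Function.Surjective p → Function.Exact i p →
      FL A M l → P M₁ → P M₃ → P M)
    (M : Type u) [AddCommGroup M] [Module A M] [hM : Module.Finite A M] (h : FL A M l) : P M := by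
  revert h
  induction hM using IsNoetherianRing.induction_on_isQuotientEquivQuotientPrime A with
  | subsingleton N => exact fun _ => zero N
  | quotient N p e => exact fun h => prime N h p e
  | exact M₁ M₂ M₃ f g hf hg hfg h1 h3 =>
    exact fun h => ext M₁ M₂ M₃ f g hf hg hfg h (h1 (h.of_injective f hf)) (h3 (h.of_surjective g hg))

theorem kill_or_injective {M : Type u} [AddCommGroup M] [Module A M] {p : Ideal A} [p.IsPrime]
    (e : M ≃ₗ[A] A ⧸ p) (f : A) :
    (∀ m : M, f • m = 0) ∨ (Function.Injective fun m : M => f • m) := by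
  by_cases hf : f ∈ p
  · refine Or.inl fun m => e.injective ?_
    rw [map_smul, map_zero, Algebra.smul_def]
    exact mul_eq_zero_of_left (Ideal.Quotient.eq_zero_iff_mem.2 hf) _
  · refine Or.inr fun m m' h => e.injective ?_
    have : f • e m = f • e m' := by rw [← map_smul, ← map_smul]; exact congrArg e h
    rw [Algebra.smul_def, Algebra.smul_def] at this
    exact mul_left_cancel₀ (fun h0 => hf (Ideal.Quotient.eq_zero_iff_mem.1 h0)) this

section Dim

variable {M : Type u} [AddCommGroup M] [Module A M]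

theorem cases3 : ∀ x : WithBot ℕ∞, x = ⊥ ∨ x = ((⊤ : ℕ∞) : WithBot ℕ∞) ∨ ∃ n : ℕ, x = (n : WithBot ℕ∞)
  | none => Or.inl rfl
  | some none => Or.inr (Or.inl rfl)
  | some (some n) => Or.inr (Or.inr ⟨n, rfl⟩)

theorem top_not_le (d : ℕ) : ¬ ((⊤ : ℕ∞) : WithBot ℕ∞) ≤ (d : WithBot ℕ∞) := fun h =>
  ENat.natCast_ne_top d (top_le_iff.1 (WithBot.coe_le_coe.1 h))

theorem top_add_one_not_le (d : ℕ) : ¬ ((⊤ : ℕ∞) : WithBot ℕ∞) + 1 ≤ (d : WithBot ℕ∞) := fun h =>
  top_not_le d (le_trans (by rw [← WithBot.coe_one, ← WithBot.coe_add, top_add]) h)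

theorem add_one_le_natCast_succ {x : WithBot ℕ∞} {d : ℕ} :
    x + 1 ≤ ((d + 1 : ℕ) : WithBot ℕ∞) ↔ x ≤ d := by
  rcases cases3 x with rfl | rfl | ⟨n, rfl⟩
  · exact ⟨fun _ => bot_le, fun _ => by rw [WithBot.bot_add]; exact bot_le⟩
  · exact ⟨fun h => absurd h (top_add_one_not_le _), fun h => absurd h (top_not_le _)⟩
  · rw [← Nat.cast_one, ← Nat.cast_add, Nat.cast_le, Nat.cast_le, Nat.add_le_add_iff_right]

theorem add_one_not_le_zero {x : WithBot ℕ∞} (h : x + 1 ≤ ((0 : ℕ) : WithBot ℕ∞)) : x = ⊥ := by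
  rcases cases3 x with rfl | rfl | ⟨n, rfl⟩
  · rfl
  · exact absurd h (top_add_one_not_le _)
  · rw [← Nat.cast_one, ← Nat.cast_add, Nat.cast_le] at h
    exact absurd h (Nat.not_succ_le_zero n)

theorem lt_natCast_succ {x : WithBot ℕ∞} {d : ℕ} : x < ((d + 1 : ℕ) : WithBot ℕ∞) ↔ x ≤ d := by
  rcases cases3 x with rfl | rfl | ⟨n, rfl⟩
  · exact ⟨fun _ => bot_le, fun _ => WithBot.bot_lt_coe _⟩
  · exact ⟨fun h => absurd h.le (top_not_le _), fun h => absurd h (top_not_le _)⟩
  · rw [Nat.cast_lt, Nat.cast_le, Nat.lt_add_one_iff]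

theorem subsingleton_of_supportDim_lt_zero (h : Module.supportDim A M < ((0 : ℕ) : WithBot ℕ∞)) :
    Subsingleton M := by
  by_contra hc
  rw [not_subsingleton_iff_nontrivial] at hc
  rcases hb : Module.supportDim A M with _ | x
  · exact Module.supportDim_ne_bot_of_nontrivial A M hb
  · rw [hb] at h
    exact absurd (WithBot.coe_lt_coe.1 h) (by simp)

theorem supportDim_quotSMulTop_add_one_le [Module.Finite A M] {p : Ideal A} [p.IsPrime]
    (e : M ≃ₗ[A] A ⧸ p) {f : A} (hf : Function.Injective fun m : M => f • m) :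
    Module.supportDim A (QuotSMulTop f M) + 1 ≤ Module.supportDim A M := by
  refine Module.supportDim_quotSMulTop_succ_le_of_notMem_minimalPrimes fun q hq hfq => ?_
  rw [e.annihilator_eq, Ideal.annihilator_quotient, Ideal.minimalPrimes_eq_subsingleton_self,
    Set.mem_singleton_iff] at hq
  subst hq
  have h1 : f • e.symm 1 = f • (0 : M) := by
    rw [smul_zero, ← map_smul, Algebra.smul_def, mul_one,
      show algebraMap A (A ⧸ q) f = 0 from Ideal.Quotient.eq_zero_iff_mem.2 hfq, map_zero]
  exact one_ne_zero (e.symm.map_eq_zero_iff.1 (hf h1))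

theorem supportDim_le_of_exact [Module.Finite A M] {M' M'' : Type u} [AddCommGroup M'] [Module A M']
    [AddCommGroup M''] [Module A M''] {i : M' →ₗ[A] M} {p : M →ₗ[A] M''} (hi : Function.Injective i)
    (hp : Function.Surjective p) (h : Function.Exact i p) [Module.Finite A M'] [Module.Finite A M''] {d : ℕ}
    (h1 : Module.supportDim A M' ≤ d) (h2 : Module.supportDim A M'' ≤ d) :
    Module.supportDim A M ≤ d := by
  rw [HilbSam.supportDim_le_iff] at h1 h2 ⊢
  intro s hs
  have hm : Module.annihilator A M' * Module.annihilator A M'' ≤ s.head.asIdeal := by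
    refine le_trans ?_ hs
    rw [Ideal.mul_le]
    intro a ha b hb
    rw [Module.mem_annihilator]
    intro m
    obtain ⟨m', hm'⟩ := (h (b • m)).1 (by rw [map_smul]; exact Module.mem_annihilator.1 hb _)
    rw [mul_smul, ← hm', ← map_smul, Module.mem_annihilator.1 ha, map_zero]
  rcases s.head.2.mul_le.1 hm with h' | h'
  · exact h1 s h'
  · exact h2 s h'

variable [IsNoetherianRing A]

theorem chi_eq_zero_of_lt : ∀ (l : List A) (M : Type u) [AddCommGroup M] [Module A M] [Module.Finite A M],
    FL A M l → Module.supportDim A M < (l.length : WithBot ℕ∞) → chi A M l = 0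
  | [], M, _, _, _, _, hd => by
    haveI := subsingleton_of_supportDim_lt_zero hd
    exact chi_of_subsingleton _
  | f :: l, M, _, _, _, h, hd => by
    refine devissage (l := f :: l)
      (P := fun M _ _ => Module.supportDim A M < ((f :: l).length : WithBot ℕ∞) → chi A M (f :: l) = 0)
      (fun M _ _ _ _ => chi_of_subsingleton _) (fun M _ _ _ h p e hd => ?_)
      (fun M₁ _ _ _ M _ _ _ M₃ _ _ _ i p hi hp hip h h1 h3 hd => ?_) M h hd
    · haveI := p.2
      rcases kill_or_injective e f with hf | hf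
      · exact chi_cons_of_kill h hf
      · rw [chi_cons_regular hf]
        refine chi_eq_zero_of_lt l _ h.quotSMulTop ?_
        have h1 := lt_natCast_succ.1 hd
        rcases hl : l.length with _ | k
        · rw [hl] at h1
          have h2 := (supportDim_quotSMulTop_add_one_le e hf).trans h1
          rw [add_one_not_le_zero h2]
          exact WithBot.bot_lt_coe _
        · rw [hl] at h1
          rw [lt_natCast_succ, ← add_one_le_natCast_succ]
          exact (supportDim_quotSMulTop_add_one_le e hf).trans h1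
    · rw [chi_add hi hp hip h, h1 (lt_of_le_of_lt (Module.supportDim_le_of_injective i hi) hd),
        h3 (lt_of_le_of_lt (Module.supportDim_le_of_surjective p hp) hd), add_zero]

theorem chi_nonneg_and_lt [IsLocalRing A] : ∀ (l : List A), (∀ a ∈ l, a ∈ IsLocalRing.maximalIdeal A) →
    ∀ (M : Type u) [AddCommGroup M] [Module A M] [Module.Finite A M], FL A M l →
      0 ≤ chi A M l ∧ (chi A M l = 0 → Module.supportDim A M < (l.length : WithBot ℕ∞))
  | [], _, M, _, _, _, h => by
    rw [chi_nil]
    refine ⟨Int.natCast_nonneg _, fun h0 => ?_⟩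
    have hfl := (FL_iff A M []).1 h
    rw [Ideal.ofList_nil, Submodule.bot_smul] at hfl
    have hne : Module.length A M ≠ ⊤ := by
      rw [← (Submodule.quotEquivOfEqBot (⊥ : Submodule A M) rfl).length_eq]
      exact Module.length_ne_top_iff.2 hfl
    haveI : Subsingleton M := Module.length_eq_zero_iff.1
      ((ENat.toNat_eq_zero.1 (by exact_mod_cast h0)).resolve_right hne)
    rw [Module.supportDim_eq_bot_of_subsingleton]
    exact WithBot.bot_lt_coe _
  | f :: l, hx, M, _, _, _, h => by
    refine devissage (l := f :: l) (P := fun M _ _ =>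
        0 ≤ chi A M (f :: l) ∧ (chi A M (f :: l) = 0 → Module.supportDim A M < ((f :: l).length : WithBot ℕ∞)))
      (fun M _ _ _ => ⟨(chi_of_subsingleton _).ge, fun _ => by
        rw [Module.supportDim_eq_bot_of_subsingleton]; exact WithBot.bot_lt_coe _⟩)
      (fun M _ _ _ h p e => ?_) (fun M₁ _ _ _ M _ _ _ M₃ _ _ _ i p hi hp hip h h1 h3 => ?_) M h
    · haveI := p.2
      have ih := chi_nonneg_and_lt l fun a ha => hx a (List.mem_cons_of_mem _ ha)
      rcases kill_or_injective e f with hf | hf
      · refine ⟨(chi_cons_of_kill h hf).ge, fun _ => lt_natCast_succ.2 ?_⟩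
        obtain ⟨d, hd⟩ : ∃ d, d ≤ l.length ∧ Module.supportDim A M ≤ (d : WithBot ℕ∞) := by
          refine ⟨l.length, le_rfl, ?_⟩
          refine HilbSam.supportDim_le_of_list l (fun a ha => ?_) ((FL_iff A M l).1 (h.tail_of_kill hf))
          rw [IsLocalRing.ringJacobson_eq_maximalIdeal]
          exact hx a (List.mem_cons_of_mem _ ha)
        exact hd.2.trans (Nat.cast_le.2 hd.1)
      · obtain ⟨i0, i1⟩ := ih (QuotSMulTop f M) h.quotSMulTop
        rw [chi_cons_regular hf]
        refine ⟨i0, fun h0 => lt_natCast_succ.2 ?_⟩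
        rw [← Module.supportDim_quotSMulTop_succ_eq_supportDim hf (hx f List.mem_cons_self)]
        rcases hl : l.length with _ | k
        · have := subsingleton_of_supportDim_lt_zero (hl ▸ i1 h0)
          rw [Module.supportDim_eq_bot_of_subsingleton, WithBot.bot_add]
          exact bot_le
        · rw [add_one_le_natCast_succ, ← lt_natCast_succ, ← hl]
          exact i1 h0
    · rw [chi_add hi hp hip h]
      refine ⟨add_nonneg h1.1 h3.1, fun h0 => lt_natCast_succ.2 ?_⟩
      obtain ⟨z1, z3⟩ := (add_eq_zero_iff_of_nonneg h1.1 h3.1).1 h0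
      exact supportDim_le_of_exact hi hp hip (lt_natCast_succ.1 (h1.2 z1)) (lt_natCast_succ.1 (h3.2 z3))

end Dim

section Pow

variable [IsNoetherianRing A]

theorem chi_pow : ∀ (L : List (A × ℕ)) (M : Type u) [AddCommGroup M] [Module A M] [Module.Finite A M],
    FL A M (L.map Prod.fst) →
      chi A M (L.map fun q => q.1 ^ q.2) = (L.map fun q => (q.2 : ℤ)).prod * chi A M (L.map Prod.fst)
  | [], M, _, _, _, _ => by simp
  | (f, m) :: L, M, _, _, _, h => by
    refine devissage (l := ((f, m) :: L).map Prod.fst) (P := fun M _ _ =>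
        chi A M (((f, m) :: L).map fun q => q.1 ^ q.2) =
          (((f, m) :: L).map fun q => (q.2 : ℤ)).prod * chi A M (((f, m) :: L).map Prod.fst))
      (fun M _ _ _ => by simp [chi_of_subsingleton]) (fun M _ _ _ h p e => ?_)
      (fun M₁ _ _ _ M _ _ _ M₃ _ _ _ i p hi hp hip h h1 h3 => ?_) M h
    · haveI := p.2
      simp only [List.map_cons, List.prod_cons] at h ⊢
      have hpow : FL A M (f ^ m :: L.map fun q => q.1 ^ q.2) := h.of_zeroLocus fun P hP => by
        obtain ⟨h1, h2⟩ := ofList_cons_le.1 hP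
        refine ofList_cons_le.2 ⟨P.2.mem_of_pow_mem m h1, Ideal.span_le.2 fun a ha => ?_⟩
        obtain ⟨q, hq, rfl⟩ := List.mem_map.1 ha
        exact P.2.mem_of_pow_mem q.2 (h2 (Ideal.subset_span (List.mem_map.2 ⟨q, hq, rfl⟩)))
      rcases kill_or_injective e f with hf | hf
      · rw [chi_cons_of_kill h hf, mul_zero]
        rcases Nat.eq_zero_or_pos m with rfl | hm
        · rw [pow_zero, chi_cons_one]
        · refine chi_cons_of_kill hpow fun x => ?_
          obtain ⟨k, rfl⟩ : ∃ k, m = k + 1 := ⟨m - 1, by omega⟩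
          rw [pow_succ, mul_smul, hf, smul_zero]
      · have hfm : Function.Injective fun x : M => f ^ m • x := IsSMulRegular.pow m hf
        rw [chi_cons_regular hfm, chi_pow L (QuotSMulTop (f ^ m) M) (h.pow_cons m).quotSMulTop,
          ← chi_cons_regular hfm, chi_cons_pow h]
        ring
    · have hpow : FL A M (((f, m) :: L).map fun q => q.1 ^ q.2) := h.of_zeroLocus fun P hP =>
        Ideal.span_le.2 fun a ha => by
          obtain ⟨q, hq, rfl⟩ := List.mem_map.1 ha
          exact P.2.mem_of_pow_mem q.2 (hP (Ideal.subset_span (List.mem_map.2 ⟨q, hq, rfl⟩)))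
      rw [chi_add hi hp hip h, chi_add hi hp hip hpow, h1, h3, mul_add]

end Pow

section Rank

variable [IsNoetherianRing A] [IsDomain A]

theorem chi_eq_rank_mul {l : List A} (hA : FL A A l)
    (hd : ringKrullDim A = (l.length : WithBot ℕ∞)) (M : Type u) [AddCommGroup M] [Module A M] [Module.Finite A M] :
    chi A M l = (Module.finrank (FractionRing A) (FractionRing A ⊗[A] M) : ℤ) * chi A A l := by
  have hFL : ∀ (N : Type u) [AddCommGroup N] [Module A N], FL A N l := fun N _ _ =>
    hA.of_support_subset fun p _ => by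
      rw [Module.mem_support_iff_of_finite]
      intro c hc
      have h1 := Module.mem_annihilator.1 hc (1 : A)
      rw [smul_eq_mul, mul_one] at h1
      rw [h1]
      exact zero_mem _
  refine devissage (l := l) (P := fun M _ _ =>
      chi A M l = (Module.finrank (FractionRing A) (FractionRing A ⊗[A] M) : ℤ) * chi A A l)
    (fun M _ _ _ => ?_) (fun M _ _ _ h p e => ?_) (fun M₁ _ _ _ M _ _ _ M₃ _ _ _ i q hi hq hip h h1 h3 => ?_)
    M (hFL M)
  · haveI : Subsingleton (FractionRing A ⊗[A] M) := inferInstance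
    rw [chi_of_subsingleton, Module.finrank_zero_of_subsingleton, Nat.cast_zero, zero_mul]
  · haveI := p.2
    by_cases hp0 : p.asIdeal = ⊥
    · let e' : M ≃ₗ[A] A := e.trans (Submodule.quotEquivOfEqBot _ hp0)
      rw [chi_congr e', (e'.baseChange A (FractionRing A) M A |>.trans
        (AlgebraTensorModule.rid A (FractionRing A) (FractionRing A))).finrank_eq, Module.finrank_self,
        Nat.cast_one, one_mul]
    · obtain ⟨c, hc, hc0⟩ := Submodule.exists_mem_ne_zero_of_ne_bot hp0
      have hkill : ∀ m : M, c • m = 0 := fun m => e.injective (by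
        rw [map_smul, map_zero, Algebra.smul_def]
        exact mul_eq_zero_of_left (Ideal.Quotient.eq_zero_iff_mem.2 hc) _)
      haveI : Subsingleton (FractionRing A ⊗[A] M) := by
        refine subsingleton_of_forall_eq 0 fun t => ?_
        induction t using TensorProduct.induction_on with
        | zero => rfl
        | add a b ha hb => rw [ha, hb, add_zero]
        | tmul a m =>
          have hu : IsUnit (algebraMap A (FractionRing A) c) := IsUnit.mk0 _ (by
            rwa [Ne, IsFractionRing.to_map_eq_zero_iff])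
          obtain ⟨b, rfl⟩ : ∃ b, c • b = a := ⟨hu.unit⁻¹.1 * a, by
            rw [Algebra.smul_def, ← mul_assoc, IsUnit.mul_val_inv, one_mul]⟩
          rw [TensorProduct.smul_tmul, hkill, TensorProduct.tmul_zero]
      rw [Module.finrank_zero_of_subsingleton, Nat.cast_zero, zero_mul]
      refine chi_eq_zero_of_lt l M h ?_
      rw [Module.supportDim_eq_of_equiv e, Module.supportDim_quotient_eq_ringKrullDim]
      have hlt : ringKrullDim (A ⧸ p.asIdeal) + 1 ≤ ringKrullDim A :=
        (add_le_add_left (ringKrullDim_le_of_surjective (Ideal.Quotient.factor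
          ((Ideal.span_singleton_le_iff_mem _).2 hc)) (Ideal.Quotient.factor_surjective _)) 1).trans
          (ringKrullDim_quotient_succ_le_of_nonZeroDivisor (mem_nonZeroDivisors_of_ne_zero hc0))
      rw [hd] at hlt
      rcases hl : l.length with _ | k
      · rw [hl] at hlt
        rw [add_one_not_le_zero hlt]
        exact WithBot.bot_lt_coe _
      · rw [hl, add_one_le_natCast_succ] at hlt
        exact lt_natCast_succ.2 hlt
  · rw [chi_add hi hq hip h, h1, h3, ← add_mul, ← Nat.cast_add]
    congr 2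
    let I := i.baseChange (FractionRing A)
    let Q := q.baseChange (FractionRing A)
    have hI : Function.Injective I := Module.Flat.lTensor_preserves_injective_linearMap i hi
    have hQ : Function.Surjective Q := LinearMap.lTensor_surjective _ hq
    have hex : Function.Exact I Q := lTensor_exact _ hip hq
    have := Q.finrank_range_add_finrank_ker
    rw [LinearMap.range_eq_top.2 hQ, finrank_top, LinearMap.exact_iff.1 hex, LinearMap.finrank_range_of_inj hI] at this
    omega

end Rank

end Groth.Agent.KEuler6
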