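import Mathlib
import Groth.Agent.Lib.KEuler6.Chi

/-!
Growth of the Koszul homology of powers of a sequence.
-/

set_option autoImplicit false
universe u

open Groth.Agent.HilbSam (relLen)
open Pointwise

namespace Groth.Agent.KEuler6

variable {A : Type u} [CommRing A]

section Filt

variable (M : Type u) [AddCommGroup M] [Module A M]

/-- `M/fM → M/f^{m+1}M`, multiplication by `f^m`. -/
noncomputable def powIn (f : A) (m : ℕ) : QuotSMulTop f M →ₗ[A] QuotSMulTop (f ^ (m + 1)) M :=
  Submodule.mapQ _ _ (f ^ m • LinearMap.id) (by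
    intro x hx
    obtain ⟨y, -, rfl⟩ := (Submodule.mem_smul_pointwise_iff_exists _ _ _).1 hx
    refine Submodule.mem_comap.2 ?_
    rw [LinearMap.smul_apply, LinearMap.id_apply, ← mul_smul, ← pow_succ]
    exact Submodule.smul_mem_pointwise_smul y (f ^ (m + 1)) ⊤ trivial)

/-- The projection `M/f^{m+1}M → M/f^m M`. -/
noncomputable def powOut (f : A) (m : ℕ) : QuotSMulTop (f ^ (m + 1)) M →ₗ[A] QuotSMulTop (f ^ m) M :=
  Submodule.mapQ _ _ LinearMap.id (by
    intro x hx
    obtain ⟨y, -, rfl⟩ := (Submodule.mem_smul_pointwise_iff_exists _ _ _).1 hx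
    rw [Submodule.mem_comap, LinearMap.id_apply, pow_succ, mul_smul]
    exact Submodule.smul_mem_pointwise_smul (f • y) (f ^ m) ⊤ trivial)

variable {M}

theorem powIn_injective {f : A} (hf : Function.Injective fun x : M => f • x) (m : ℕ) :
    Function.Injective (powIn M f m) := by
  refine LinearMap.ker_eq_bot.1 (Submodule.eq_bot_iff _ |>.2 fun x hx => ?_)
  obtain ⟨x, rfl⟩ := Submodule.mkQ_surjective _ x
  rw [LinearMap.mem_ker] at hx
  change Submodule.Quotient.mk (f ^ m • x) = 0 at hx
  rw [Submodule.Quotient.mk_eq_zero, Submodule.mem_smul_pointwise_iff_exists] at hx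
  obtain ⟨y, -, hy⟩ := hx
  rw [Submodule.mkQ_apply, Submodule.Quotient.mk_eq_zero]
  have hm : Function.Injective fun x : M => f ^ m • x := IsSMulRegular.pow m hf
  have : f • y = x := hm (by show f ^ m • f • y = f ^ m • x; rw [← hy, pow_succ, mul_smul])
  rw [← this]
  exact Submodule.smul_mem_pointwise_smul y f ⊤ trivial

theorem powOut_surjective (f : A) (m : ℕ) : Function.Surjective (powOut M f m) := fun x => by
  obtain ⟨x, rfl⟩ := Submodule.mkQ_surjective _ x
  exact ⟨Submodule.Quotient.mk x, rfl⟩

theorem pow_exact (f : A) (m : ℕ) : Function.Exact (powIn M f m) (powOut M f m) := by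
  intro x
  obtain ⟨x, rfl⟩ := Submodule.mkQ_surjective _ x
  change (Submodule.Quotient.mk x : QuotSMulTop (f ^ m) M) = 0 ↔ _
  rw [Submodule.Quotient.mk_eq_zero, Submodule.mem_smul_pointwise_iff_exists]
  constructor
  · rintro ⟨y, -, rfl⟩
    exact ⟨Submodule.Quotient.mk y, rfl⟩
  · rintro ⟨y, hy⟩
    obtain ⟨y, rfl⟩ := Submodule.mkQ_surjective _ y
    change Submodule.Quotient.mk (f ^ m • y) = Submodule.Quotient.mk x at hy
    rw [Submodule.Quotient.eq, Submodule.mem_smul_pointwise_iff_exists] at hy
    obtain ⟨z, -, hz⟩ := hy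
    refine ⟨y - f • z, trivial, ?_⟩
    rw [smul_sub, ← mul_smul, ← pow_succ, hz, sub_sub_cancel]

theorem hl_quotSMulTop_pow {f : A} (hf : Function.Injective fun x : M => f • x) (l : List A) (n : ℕ) :
    ∀ m : ℕ, hl A (QuotSMulTop (f ^ m) M) l n ≤ (m : ℕ∞) * hl A (QuotSMulTop f M) l n
  | 0 => by
    haveI : Subsingleton (QuotSMulTop (f ^ 0) M) := Submodule.Quotient.subsingleton_iff.2 (by
      rw [pow_zero, one_smul])
    rw [hl_eq_zero_of_subsingleton]
    exact zero_le
  | m + 1 => by
    refine (hl_le_of_ses (powIn_injective hf m) (powOut_surjective f m) (pow_exact f m) l n).trans ?_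
    rw [Nat.cast_add, Nat.cast_one, add_mul, one_mul, add_comm]
    exact add_le_add (hl_quotSMulTop_pow hf l n m) le_rfl

end Filt

theorem natCast_mono {a b : ℕ} (h : a ≤ b) : (a : ℕ∞) ≤ (b : ℕ∞) := Nat.cast_le.2 h

variable [IsNoetherianRing A]

/-- Length of `H_n(x^N; M)` is at most `c N^{min(r-n, dim M)}`. -/
theorem hl_pow_le : ∀ (l : List A) (d : ℕ) (M : Type u) [AddCommGroup M] [Module A M] [Module.Finite A M],
    FL A M l → Module.supportDim A M ≤ (d : WithBot ℕ∞) → ∀ n : ℕ, ∃ c : ℕ, ∀ N : ℕ, 0 < N →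
      hl A M (l.map (· ^ N)) n ≤ ((c * N ^ min (l.length - n) d : ℕ) : ℕ∞)
  | [], d, M, _, _, _, h, _, n => by
    refine ⟨(hl A M [] n).toNat, fun N _ => ?_⟩
    rw [List.map_nil, List.length_nil, Nat.zero_sub, Nat.zero_min, pow_zero, mul_one,
      ENat.natCast_toNat (hl_ne_top A M h n)]
  | f :: l, d, M, _, _, _, h, hd, n => by
    refine devissage (l := f :: l) (P := fun M _ _ => Module.supportDim A M ≤ (d : WithBot ℕ∞) →
        ∀ n : ℕ, ∃ c : ℕ, ∀ N : ℕ, 0 < N →
          hl A M ((f :: l).map (· ^ N)) n ≤ ((c * N ^ min ((f :: l).length - n) d : ℕ) : ℕ∞))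
      (fun M _ _ _ _ n => ⟨0, fun N _ => by rw [hl_eq_zero_of_subsingleton]; exact zero_le⟩)
      (fun M _ _ _ h p e hd n => ?_) (fun M₁ _ _ _ M _ _ _ M₃ _ _ _ i q hi hq hiq h h1 h3 hd n => ?_) M h hd n
    · haveI := p.2
      rcases kill_or_injective e f with hf | hf
      · have hl' := h.tail_of_kill hf
        obtain ⟨c1, hc1⟩ := hl_pow_le l d M hl' hd n
        cases n with
        | zero =>
          refine ⟨c1, fun N hN => ?_⟩
          rw [List.map_cons, hl_cons_zero]
          refine ((cf_le_hl A M _ _ 0).trans (hc1 N hN)).trans (natCast_mono (Nat.mul_le_mul le_rfl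
            (Nat.pow_le_pow_right hN (min_le_min (Nat.sub_le_sub_right (Nat.le_succ _) 0) le_rfl))))
        | succ n =>
          obtain ⟨c2, hc2⟩ := hl_pow_le l d M hl' hd n
          refine ⟨c1 + c2, fun N hN => ?_⟩
          rw [List.map_cons, hl_cons_succ]
          refine (add_le_add ((cf_le_hl A M _ _ _).trans (hc1 N hN))
            ((kf_le_hl A M _ _ _).trans (hc2 N hN))).trans ?_
          rw [← Nat.cast_add]
          refine natCast_mono ?_
          rw [List.length_cons, Nat.succ_sub_succ, add_mul]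
          exact Nat.add_le_add (Nat.mul_le_mul le_rfl (Nat.pow_le_pow_right hN
            (min_le_min (Nat.sub_le_sub_left (Nat.le_succ n) _) le_rfl))) le_rfl
      · have hfN : ∀ N : ℕ, Function.Injective fun x : M => f ^ N • x := fun N => IsSMulRegular.pow N hf
        have hq := supportDim_quotSMulTop_add_one_le e hf
        cases d with
        | zero =>
          haveI : Subsingleton (QuotSMulTop f M) := by
            rw [← Module.supportDim_eq_bot_iff_subsingleton (R := A)]
            exact add_one_not_le_zero (hq.trans hd)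
          refine ⟨0, fun N _ => ?_⟩
          rw [List.map_cons, hl_cons_eq_quotSMulTop (hfN N)]
          refine (hl_quotSMulTop_pow hf _ n N).trans ?_
          rw [hl_eq_zero_of_subsingleton, mul_zero]
          exact zero_le
        | succ d =>
          rcases lt_or_ge l.length n with hn | hn
          · refine ⟨0, fun N _ => ?_⟩
            rw [List.map_cons, hl_cons_eq_quotSMulTop (hfN N), hl_eq_zero_of_lt _ _ _ (by rwa [List.length_map])]
            exact zero_le
          · obtain ⟨c, hc⟩ := hl_pow_le l d (QuotSMulTop f M) h.quotSMulTop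
              (add_one_le_natCast_succ.1 (hq.trans hd)) n
            refine ⟨c, fun N hN => ?_⟩
            rw [List.map_cons, hl_cons_eq_quotSMulTop (hfN N)]
            refine (hl_quotSMulTop_pow hf _ n N).trans ((mul_le_mul' le_rfl (hc N hN)).trans ?_)
            rw [← Nat.cast_mul]
            refine natCast_mono ?_
            rw [List.length_cons, Nat.succ_sub hn, Nat.succ_min_succ, pow_succ]
            exact le_of_eq (by ring)
    · obtain ⟨c1, hc1⟩ := h1 ((Module.supportDim_le_of_injective i hi).trans hd) n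
      obtain ⟨c3, hc3⟩ := h3 ((Module.supportDim_le_of_surjective q hq).trans hd) n
      refine ⟨c1 + c3, fun N hN => (hl_le_of_ses hi hq hiq _ n).trans ?_⟩
      refine (add_le_add (hc1 N hN) (hc3 N hN)).trans ?_
      rw [← Nat.cast_add, add_mul]

end Groth.Agent.KEuler6
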