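import Mathlib
import Groth.Agent.Lib.KEuler6.Bound

/-!
The Samuel multiplicity of the ideal of a sequence is its Koszul Euler characteristic (Serre), and Lech's
limit formula.
-/

set_option autoImplicit false
universe u

open Groth.Agent.CanElt (KObj kd k0 kd_kd range_kd_le subsingleton_KObj)
open Groth.Agent.HilbSam (relLen relLen_trans)
open Finset Filter Polynomial Topology

namespace Groth.Agent.KEuler6

theorem toNat_add3 {a b c : ℕ∞} (ha : a ≠ ⊤) (hb : b ≠ ⊤) (hc : c ≠ ⊤) :
    ((a + b + c).toNat : ℤ) = (a.toNat : ℤ) + b.toNat + c.toNat := by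
  lift a to ℕ using ha
  lift b to ℕ using hb
  lift c to ℕ using hc
  rw [← Nat.cast_add, ← Nat.cast_add]
  simp only [ENat.toNat_natCast]
  push_cast
  rfl

section Cells

variable (A : Type u) [CommRing A] (M : Type u) [AddCommGroup M] [Module A M]

theorem relLen_smul_top (J : Ideal A) : ∀ (l : List A) (n : ℕ),
    relLen (J • (⊤ : Submodule A (KObj A M l n))) ⊤ =
      (l.length.choose n : ℕ∞) * Module.length A (M ⧸ J • (⊤ : Submodule A M))
  | [], 0 => by
    rw [List.length_nil, Nat.choose_zero_right, Nat.cast_one, one_mul]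
    exact relLen_top (J • (⊤ : Submodule A M))
  | [], n + 1 => by
    haveI : Subsingleton (KObj A M ([] : List A) (n + 1)) := inferInstanceAs (Subsingleton PUnit)
    rw [List.length_nil, Nat.choose_zero_succ, Nat.cast_zero, zero_mul]
    exact relLen_eq_zero_of_le fun x _ => by rw [Subsingleton.elim x 0]; exact zero_mem _
  | f :: l, 0 => by
    have h := relLen_smul_top J l 0
    rw [Nat.choose_zero_right] at h
    rw [Nat.choose_zero_right]
    exact h
  | f :: l, n + 1 => by
    set S := J • (⊤ : Submodule A (KObj A M (f :: l) (n + 1)))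
    rw [relLen_trans (P := S ⊔ LinearMap.ker (p2 A M f l n)) le_sup_left le_top, relLen_sup_right,
      List.length_cons, Nat.choose_succ_succ, Nat.cast_add, add_mul, ← relLen_smul_top J l n,
      ← relLen_smul_top J l (n + 1), add_comm]
    congr 1
    · rw [← relLen_map, Submodule.map_smul'', Submodule.map_top,
        LinearMap.range_eq_top.2 (p2_surjective A M f l n)]
    · rw [ker_p2, LinearMap.range_eq_map, relLen_map']
      refine congrArg (fun X => relLen X ⊤) (le_antisymm ?_ ?_)
      · intro a ha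
        have h := Submodule.mem_map_of_mem (f := p1 A M f l n) (Submodule.mem_comap.1 ha)
        rw [Submodule.map_smul''] at h
        exact Submodule.smul_mono le_rfl le_top h
      · rw [← Submodule.map_le_iff_le_comap, Submodule.map_smul'']
        exact Submodule.smul_mono le_rfl le_top

theorem map_kd_le (l : List A) (j n : ℕ) :
    (Ideal.ofList l ^ j • (⊤ : Submodule A (KObj A M l (n + 1)))).map (kd A M l n) ≤
      Ideal.ofList l ^ (j + 1) • (⊤ : Submodule A (KObj A M l n)) := by
  rw [Submodule.map_smul'', pow_succ, mul_smul, Submodule.map_top]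
  exact Submodule.smul_mono le_rfl (range_kd_le A M l n)

theorem ideal_smul_inf_Zy_le (l : List A) (k n : ℕ) :
    Ideal.ofList l • (Ideal.ofList l ^ k • ⊤ ⊓ Zy A M l n) ≤
      (Ideal.ofList l ^ k • (⊤ : Submodule A (KObj A M l (n + 1)))).map (kd A M l n) := by
  rw [Submodule.smul_le]
  intro g hg w hw
  induction hg using Submodule.span_induction with
  | mem g hg =>
    obtain ⟨h, h0, hs⟩ := exists_homotopy A M l g hg
    refine ⟨h n w, ?_, ?_⟩
    · have := Submodule.mem_map_of_mem (f := h n) hw.1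
      rw [Submodule.map_smul''] at this
      exact Submodule.smul_mono le_rfl le_top this
    · cases n with
      | zero => exact h0 w
      | succ n =>
        have := hs n w
        rwa [LinearMap.mem_ker.1 hw.2, map_zero, add_zero] at this
  | zero => simp
  | add a b _ _ h1 h2 => rw [add_smul]; exact add_mem h1 h2
  | smul c a _ h1 => rw [smul_eq_mul, mul_smul]; exact Submodule.smul_mem _ _ h1

variable [IsNoetherianRing A] [Module.Finite A M]

theorem exists_exact_pow (l : List A) : ∃ m₀ : ℕ, ∀ m, m₀ ≤ m → ∀ n, n ≤ l.length →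
    n + 1 ≤ m ∧ Zy A M l n ⊓ Ideal.ofList l ^ (m - n) • ⊤ ≤
      (Ideal.ofList l ^ (m - n - 1) • (⊤ : Submodule A (KObj A M l (n + 1)))).map (kd A M l n) := by
  have hk : ∀ n, ∃ k : ℕ, ∀ j ≥ k, Ideal.ofList l ^ j • ⊤ ⊓ Zy A M l n =
      Ideal.ofList l ^ (j - k) • (Ideal.ofList l ^ k • ⊤ ⊓ Zy A M l n) := fun n => by
    haveI := finite_KObj A M l n
    exact Ideal.exists_pow_inf_eq_pow_smul _ _
  choose k hk using hk
  refine ⟨(Finset.range (l.length + 1)).sup k + l.length + 1, fun m hm n hn => ⟨by omega, ?_⟩⟩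
  have hkn : k n ≤ (Finset.range (l.length + 1)).sup k :=
    Finset.le_sup (f := k) (Finset.mem_range.2 (by omega))
  obtain ⟨j, hj⟩ : ∃ j, m - n - k n = j + 1 := ⟨m - n - k n - 1, by omega⟩
  rw [inf_comm, hk n (m - n) (by omega), hj, pow_succ, mul_smul]
  refine (Submodule.smul_mono le_rfl (ideal_smul_inf_Zy_le A M l (k n) n)).trans ?_
  rw [← Submodule.map_smul'', ← mul_smul, ← pow_add]
  rw [show m - n - 1 = j + k n by omega]

theorem chi_eq_sum_hs {l : List A} (h : FL A M l) :
    ∃ m₀ : ℕ, ∀ m, m₀ ≤ m → chi A M l = ∑ n ∈ range (l.length + 1),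
      (-1 : ℤ) ^ n * (l.length.choose n : ℤ) * (HilbSam.hs (Ideal.ofList l) M (m - n) : ℤ) := by
  obtain ⟨m₀, hm₀⟩ := exists_exact_pow A M l
  refine ⟨m₀, fun m hm => ?_⟩
  set F : ∀ n, Submodule A (KObj A M l n) := fun n => Ideal.ofList l ^ (m - n) • ⊤ with hF
  set x : ℕ → ℕ∞ := fun n => relLen (F n) (Bd A M l n) with hx
  have hZF : ∀ n, n ≤ l.length → Zy A M l n ⊓ F n ≤ Bd A M l n := fun n hn =>
    ((hm₀ m hm n hn).2).trans LinearMap.map_le_range
  have hmid : ∀ n, n ≤ l.length →
      relLen (F n) (Zy A M l n ⊔ F n) = x n + hl A M l n := fun n hn => by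
    have hle : F n ≤ Bd A M l n ⊔ F n := le_sup_right
    rw [relLen_trans hle (sup_le_sup_right (Bd_le_Zy A M l n) _)]
    congr 1
    · rw [sup_comm, relLen_sup_right]
    · calc relLen (Bd A M l n ⊔ F n) (Zy A M l n ⊔ F n)
          = relLen (Bd A M l n ⊔ F n) (Zy A M l n) := by
            rw [← relLen_sup_right (Bd A M l n ⊔ F n) (Zy A M l n)]
            congr 1
            exact le_antisymm (sup_le le_sup_right (le_sup_right.trans le_sup_left))
              (sup_le (sup_le_sup_right (Bd_le_Zy A M l n) _) le_sup_left)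
        _ = relLen ((Bd A M l n ⊔ F n) ⊓ Zy A M l n) (Zy A M l n) := relLen_inf _ _
        _ = _ := by
          rw [inf_comm, inf_sup_of_le (Bd_le_Zy A M l n), sup_eq_left.2 (hZF n hn)]
          rfl
  have h0 : relLen (F 0) ⊤ = x 0 + hl A M l 0 := by
    rw [← hmid 0 (Nat.zero_le _)]
    congr 1
    exact (top_sup_eq _).symm
  have hsucc : ∀ n, n + 1 ≤ l.length →
      relLen (F (n + 1)) ⊤ = x (n + 1) + hl A M l (n + 1) + x n := fun n hn => by
    rw [relLen_trans (P := Zy A M l (n + 1) ⊔ F (n + 1)) le_sup_right le_top, hmid (n + 1) hn]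
    congr 1
    have e : (F (n + 1)).map (kd A M l n) = F n ⊓ Bd A M l n := by
      refine le_antisymm (le_inf ?_ LinearMap.map_le_range) ?_
      · refine (map_kd_le A M l (m - (n + 1)) n).trans (le_of_eq ?_)
        have := (hm₀ m hm (n + 1) hn).1
        rw [hF, show m - (n + 1) + 1 = m - n by omega]
      · rintro y ⟨hy, hy'⟩
        have := (hm₀ m hm n (by omega)).2 ⟨Bd_le_Zy A M l n hy', hy⟩
        rwa [Nat.sub_sub] at this
    rw [sup_comm]
    change relLen (F (n + 1) ⊔ LinearMap.ker (kd A M l n)) ⊤ = _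
    rw [← relLen_map, e, Submodule.map_top]
    exact (relLen_inf _ _).symm
  have xr : x l.length = 0 := by
    refine relLen_eq_zero_of_le ?_
    haveI := subsingleton_KObj A M l (l.length + 1) (Nat.lt_succ_self _)
    rintro _ ⟨z, rfl⟩
    rw [Subsingleton.elim z 0, map_zero]
    exact zero_mem _
  have hfl : IsFiniteLength A (M ⧸ Ideal.ofList l • (⊤ : Submodule A M)) := (FL_iff A M l).1 h
  have hfin : ∀ n, relLen (F n) ⊤ ≠ ⊤ := fun n => by
    rw [relLen_smul_top]
    exact WithTop.mul_ne_top (ENat.natCast_ne_top _) (HilbSam.length_quotient_pow_ne_top hfl _)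
  have hx' : ∀ n, x n ≠ ⊤ := fun n => ne_top_of_le_ne_top (hfin n) (relLen_mono_right le_top)
  have key : ∀ n, n ≤ l.length → ((l.length.choose n : ℤ) * (HilbSam.hs (Ideal.ofList l) M (m - n) : ℤ)) =
      ((x n).toNat : ℤ) + (hl A M l n).toNat + (if n = 0 then (0 : ℤ) else ((x (n - 1)).toNat : ℤ)) := by
    intro n hn
    have e : ((relLen (F n) ⊤).toNat : ℤ) =
        (l.length.choose n : ℤ) * (HilbSam.hs (Ideal.ofList l) M (m - n) : ℤ) := by
      rw [relLen_smul_top, ENat.toNat_mul, ENat.toNat_natCast]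
      push_cast
      rfl
    rw [← e]
    cases n with
    | zero =>
      rw [h0, ENat.toNat_add (hx' 0) (hl_ne_top A M h 0), if_pos rfl, add_zero]
      push_cast
      rfl
    | succ n =>
      rw [hsucc n hn, toNat_add3 (hx' _) (hl_ne_top A M h _) (hx' n), if_neg (Nat.succ_ne_zero n),
        Nat.add_sub_cancel]
  have : ∑ n ∈ range (l.length + 1), (-1 : ℤ) ^ n * (l.length.choose n : ℤ) * (HilbSam.hs (Ideal.ofList l) M (m - n) : ℤ) =
      ∑ n ∈ range (l.length + 1), ((-1 : ℤ) ^ n * (x n).toNat + (-1) ^ n * (hl A M l n).toNat +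
        (-1) ^ n * (if n = 0 then (0 : ℤ) else ((x (n - 1)).toNat : ℤ))) :=
    Finset.sum_congr rfl fun n hn => by
      rw [mul_assoc, key n (by simpa [Nat.lt_add_one_iff] using hn), mul_add, mul_add]
  rw [this, Finset.sum_add_distrib, Finset.sum_add_distrib,
    Finset.sum_range_succ' (fun n => (-1 : ℤ) ^ n * (if n = 0 then (0 : ℤ) else ((x (n - 1)).toNat : ℤ))),
    Finset.sum_range_succ (fun n => (-1 : ℤ) ^ n * ((x n).toNat : ℤ)), xr]
  simp only [if_neg (Nat.succ_ne_zero _), Nat.add_sub_cancel, pow_succ, mul_neg, mul_one, neg_mul,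
    Finset.sum_neg_distrib, ENat.toNat_zero, Nat.cast_zero, mul_zero, add_zero, ↓reduceIte]
  rw [chi, chiN]
  ring

theorem exists_poly_chi {l : List A} (h : FL A M l) :
    ∃ q : ℚ[X], q ∈ degreeLT ℚ (l.length + 1) ∧
      (∀ᶠ n : ℕ in atTop, (HilbSam.hs (Ideal.ofList l) M n : ℚ) = q.eval (n : ℚ)) ∧
      (chi A M l : ℚ) = q.coeff l.length * l.length.factorial := by
  set r := l.length with hr
  have hI : Ideal.ofList l = Ideal.span (Set.range fun i : Fin l.length => l.get i) := by
    rw [Ideal.ofList]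
    congr 1
    exact (Set.range_list_get l).symm
  have hfl := (FL_iff A M l).1 h
  rw [hI] at hfl
  obtain ⟨q, hq, N, hN⟩ := HilbSam.polyLT_hs (fun i : Fin l.length => l.get i) hfl
  rw [← hI] at hN
  refine ⟨q, hq, Filter.eventually_atTop.2 ⟨N, hN⟩, ?_⟩
  obtain ⟨m₀, hm₀⟩ := chi_eq_sum_hs A M h
  have hm := hm₀ (m₀ + N + r) (by omega)
  set y : ℕ := m₀ + N
  have e : (chi A M l : ℚ) = ((fwdDiff (1 : ℚ))^[r] (fun t => q.eval t)) (y : ℚ) := by
    rw [fwdDiff_iter_eq_sum_shift, ← Finset.sum_range_reflect, hm]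
    push_cast
    refine Finset.sum_congr rfl fun n hn => ?_
    have hn' : n ≤ r := Nat.lt_add_one_iff.1 (Finset.mem_range.1 hn)
    rw [hN _ (by omega), nsmul_one, zsmul_eq_mul]
    push_cast
    rw [Nat.sub_sub_self hn', Nat.choose_symm hn', Nat.cast_sub (by omega : n ≤ m₀ + N + r),
      Nat.cast_sub hn']
    congr 2
    simp only [y]
    push_cast
    ring
  rw [e]
  rcases lt_or_eq_of_le (Nat.lt_add_one_iff.1
    (lt_of_lt_of_le (by
      rcases eq_or_ne q 0 with rfl | h0
      · simp
      · exact (natDegree_lt_iff_degree_lt h0).2 (mem_degreeLT.1 hq)) le_rfl) : q.natDegree ≤ r) with hd | hd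
  · have := Polynomial.fwdDiff_iter_eq_zero_of_degree_lt hd
    rw [coeff_eq_zero_of_natDegree_lt hd, zero_mul]
    exact congrFun this _
  · rw [← hd]
    exact congrFun (Polynomial.fwdDiff_iter_degree_eq_factorial q) _

omit [IsNoetherianRing A] [Module.Finite A M] in
theorem tendsto_eval_div_pow {q : ℚ[X]} {r : ℕ} (hq : q ∈ degreeLT ℚ (r + 1)) :
    Tendsto (fun n : ℕ => ((q.eval (n : ℚ) : ℚ) : ℝ) / (n : ℝ) ^ r) atTop (𝓝 ((q.coeff r : ℚ) : ℝ)) := by
  have hd : q.natDegree < r + 1 := by
    rcases eq_or_ne q 0 with rfl | h0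
    · simp
    · exact (natDegree_lt_iff_degree_lt h0).2 (mem_degreeLT.1 hq)
  have e : ∀ n : ℕ, ((q.eval (n : ℚ) : ℚ) : ℝ) / (n : ℝ) ^ r =
      ∑ i ∈ range (r + 1), ((q.coeff i : ℚ) : ℝ) * ((n : ℝ) ^ i / (n : ℝ) ^ r) := fun n => by
    rw [eval_eq_sum_range' hd]
    push_cast
    rw [Finset.sum_div]
    exact Finset.sum_congr rfl fun i _ => mul_div_assoc _ _ _
  rw [funext e]
  have : ((q.coeff r : ℚ) : ℝ) = ∑ i ∈ range (r + 1), ((q.coeff i : ℚ) : ℝ) * (if i = r then 1 else 0) := by
    simp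
  rw [this]
  refine tendsto_finsetSum _ fun i hi => Tendsto.const_mul _ ?_
  split_ifs with hir
  · subst hir
    refine tendsto_const_nhds.congr' ?_
    filter_upwards [eventually_gt_atTop 0] with n hn
    rw [div_self (pow_ne_zero _ (Nat.cast_ne_zero.2 hn.ne'))]
  · have hlt : i < r := lt_of_le_of_ne (Nat.lt_add_one_iff.1 (Finset.mem_range.1 hi)) hir
    exact (tendsto_pow_div_pow_atTop_zero (𝕜 := ℝ) hlt).comp tendsto_natCast_atTop_atTop

/-- Serre: the normalized Samuel function converges to the Euler characteristic. -/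
theorem tendsto_hs {l : List A} (h : FL A M l) :
    Tendsto (fun n : ℕ => (HilbSam.hs (Ideal.ofList l) M n : ℝ) / (n : ℝ) ^ l.length) atTop
      (𝓝 ((chi A M l : ℝ) / (l.length.factorial : ℝ))) := by
  obtain ⟨q, hq, hev, hc⟩ := exists_poly_chi A M h
  have hc' : ((q.coeff l.length : ℚ) : ℝ) = (chi A M l : ℝ) / (l.length.factorial : ℝ) := by
    rw [eq_div_iff (Nat.cast_ne_zero.2 (Nat.factorial_ne_zero _))]
    exact_mod_cast hc.symm
  rw [← hc']
  refine (tendsto_eval_div_pow hq).congr' ?_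
  filter_upwards [hev] with n hn
  rw [← hn, Rat.cast_natCast]

/-- Lech: the normalized colengths of powers converge to the Euler characteristic. -/
theorem tendsto_pow_colength {l : List A} (h : FL A M l) {d : ℕ}
    (hd : Module.supportDim A M ≤ (d : WithBot ℕ∞)) :
    Tendsto (fun N : ℕ => ((hl A M (l.map (· ^ N)) 0).toNat : ℝ) / (N : ℝ) ^ l.length) atTop
      (𝓝 (chi A M l : ℝ)) := by
  set r := l.length with hr
  choose c hc using fun n => hl_pow_le l d M h hd n
  have e : ∀ N : ℕ, ((hl A M (l.map (· ^ N)) 0).toNat : ℝ) = (N : ℝ) ^ r * (chi A M l : ℝ) -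
      ∑ n ∈ range r, (-1 : ℝ) ^ (n + 1) * ((hl A M (l.map (· ^ N)) (n + 1)).toNat : ℝ) := fun N => by
    have hp := chi_pow (l.map fun a => (a, N)) M (by rw [List.map_map]; simpa [Function.comp_def] using h)
    simp only [List.map_map, Function.comp_def, List.map_id', List.map_const', List.prod_replicate] at hp
    rw [chi, chiN, List.length_map, Finset.sum_range_succ'] at hp
    have hp' := congrArg (fun z : ℤ => (z : ℝ)) hp
    push_cast at hp'
    rw [← hr] at hp'
    rw [← hp']
    simp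
  have lim : ∀ n ∈ range r, Tendsto
      (fun N : ℕ => (-1 : ℝ) ^ (n + 1) * ((hl A M (l.map (· ^ N)) (n + 1)).toNat : ℝ) / (N : ℝ) ^ r)
      atTop (𝓝 0) := by
    intro n hn
    have hb : Tendsto (fun N : ℕ => (c (n + 1) : ℝ) * ((N : ℝ) ^ (min (r - (n + 1)) d) / (N : ℝ) ^ r)) atTop (𝓝 0) := by
      have := (tendsto_pow_div_pow_atTop_zero (𝕜 := ℝ)
        (show min (r - (n + 1)) d < r from by have := Finset.mem_range.1 hn; omega)).comp
        (tendsto_natCast_atTop_atTop (R := ℝ))
      simpa using this.const_mul (c (n + 1) : ℝ)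
    refine squeeze_zero_norm' ?_ hb
    filter_upwards [eventually_gt_atTop 0] with N hN
    rw [norm_div, norm_mul, norm_pow, norm_neg, norm_one, one_pow, one_mul, Real.norm_natCast,
      Real.norm_of_nonneg (pow_nonneg (Nat.cast_nonneg _) _), ← mul_div_assoc]
    refine div_le_div_of_nonneg_right ?_ (pow_nonneg (Nat.cast_nonneg _) _)
    have := ENat.toNat_le_of_le_natCast (hc (n + 1) N hN)
    exact_mod_cast this
  have hsum := tendsto_finsetSum (range r) lim
  rw [Finset.sum_const_zero] at hsum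
  have := (tendsto_const_nhds (x := (chi A M l : ℝ)) (f := atTop (α := ℕ))).sub hsum
  rw [sub_zero] at this
  refine this.congr' ?_
  filter_upwards [eventually_gt_atTop 0] with N hN
  rw [e N, sub_div, Finset.sum_div, mul_div_cancel_left₀]
  exact pow_ne_zero _ (Nat.cast_ne_zero.2 hN.ne')

end Cells

end Groth.Agent.KEuler6
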