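import Mathlib
import Groth.Prelude.Def_Koszul
import Groth.Prelude.Def_DRing2
import Groth.Agent.Lib.CI2.Bridge
import Groth.Agent.Lib.KEuler6.Chi

/-!
The homology of the prelude's Koszul complex tensored with a module, in terms of the elementary model.
-/

set_option autoImplicit false
universe u

set_option backward.isDefEq.respectTransparency.types false

open CategoryTheory CategoryTheory.Limits MonoidalCategory TensorProduct
open Groth.Agent.CanElt (KObj kd lmap lmap_kd)
open Groth.Agent.HilbSam (relLen relLen_trans)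

namespace Groth.Agent.KEuler6

variable (A : Type u) [CommRing A] (M : Type u) [AddCommGroup M] [Module A M]

/-- `K(l) ⊗ M = K(l; M)` degreewise. -/
noncomputable def te : ∀ (l : List A) (n : ℕ), (KObj A A l n ⊗[A] M) ≃ₗ[A] KObj A M l n
  | [], 0 => TensorProduct.lid A M
  | [], n + 1 =>
    haveI : Subsingleton (KObj A A ([] : List A) (n + 1)) := inferInstanceAs (Subsingleton PUnit)
    haveI : Subsingleton (KObj A M ([] : List A) (n + 1)) := inferInstanceAs (Subsingleton PUnit)
    LinearEquiv.ofSubsingleton _ _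
  | _ :: l, 0 => te l 0
  | _ :: l, n + 1 =>
    TensorProduct.prodLeft A A (KObj A A l (n + 1)) (KObj A A l n) M ≪≫ₗ (te l (n + 1)).prodCongr (te l n)

theorem te_tmul (m : M) : ∀ (l : List A) (n : ℕ) (z : KObj A A l n),
    te A M l n (z ⊗ₜ[A] m) = lmap (LinearMap.toSpanSingleton A M m) l n z
  | [], 0, (z : A) => TensorProduct.lid_tmul (R := A) m z
  | [], _ + 1, _ => Subsingleton.elim (h := inferInstanceAs (Subsingleton PUnit)) _ _
  | _ :: l, 0, z => te_tmul m l 0 z
  | _ :: l, n + 1, (a, b) => Prod.ext (te_tmul m l (n + 1) a) (te_tmul m l n b)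

/-- Length of homology as a subquotient of the middle term. -/
theorem length_homology (S : ShortComplex (ModuleCat.{u} A)) :
    Module.length A S.homology = relLen (LinearMap.range S.f.hom) (LinearMap.ker S.g.hom) := by
  rw [S.moduleCatHomologyIso.toLinearEquiv.length_eq, HilbSam.relLen_eq_quotient]
  change Module.length A (LinearMap.ker S.g.hom ⧸ LinearMap.range S.moduleCatToCycles) = _
  rw [show LinearMap.range S.moduleCatToCycles =
    (LinearMap.range S.f.hom).comap (LinearMap.ker S.g.hom).subtype from LinearMap.range_codRestrict _ _ _]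

/-- The degree `-n` term. -/
noncomputable def eX (l : List A) (n : ℕ) (i : ℤ) (h : i + n = 0) :
    ((DRing.tensorCx (Koszul.koszul A l) (ModuleCat.of A M)).X i) ≃ₗ[A] KObj A M l n :=
  LinearEquiv.rTensor M (CI2.kEquiv A l n i h) ≪≫ₗ te A M l n

theorem eX_d (l : List A) (n : ℕ) (i j : ℤ) (hi : i + (n + 1 : ℕ) = 0) (hj : j + n = 0)
    (x : (DRing.tensorCx (Koszul.koszul A l) (ModuleCat.of A M)).X i) :
    eX A M l n j hj (((DRing.tensorCx (Koszul.koszul A l) (ModuleCat.of A M)).d i j).hom x) =
      kd A M l n (eX A M l (n + 1) i hi x) := by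
  obtain rfl : j = i + 1 := by omega
  suffices h : (eX A M l n (i + 1) hj).toLinearMap ∘ₗ
      ((DRing.tensorCx (Koszul.koszul A l) (ModuleCat.of A M)).d i (i + 1)).hom =
        kd A M l n ∘ₗ (eX A M l (n + 1) i hi).toLinearMap from LinearMap.congr_fun h x
  exact TensorProduct.ext' fun z m => by
    change te A M l n (CI2.kEquiv A l n (i + 1) hj (((Koszul.koszul A l).d i (i + 1)).hom z) ⊗ₜ[A] m) =
      kd A M l n (te A M l (n + 1) (CI2.kEquiv A l (n + 1) i hi z ⊗ₜ[A] m))
    rw [te_tmul, te_tmul, CI2.kEquiv_d, lmap_kd]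

theorem isZero_X (l : List A) (i : ℤ) (h : 0 < i) :
    IsZero ((DRing.tensorCx (Koszul.koszul A l) (ModuleCat.of A M)).X i) :=
  Functor.map_isZero (tensorRight (ModuleCat.of A M)) (CI2.isZero_X_of_pos A l i h)

theorem range_d (l : List A) (n : ℕ) (i j : ℤ) (hi : i + (n + 1 : ℕ) = 0) (hj : j + n = 0) :
    (LinearMap.range ((DRing.tensorCx (Koszul.koszul A l) (ModuleCat.of A M)).d i j).hom).map
      (eX A M l n j hj).toLinearMap = Bd A M l n := by
  refine le_antisymm ?_ ?_
  · rintro _ ⟨_, ⟨x, rfl⟩, rfl⟩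
    exact ⟨eX A M l (n + 1) i hi x, (eX_d A M l n i j hi hj x).symm⟩
  · rintro _ ⟨y, rfl⟩
    refine ⟨_, ⟨(eX A M l (n + 1) i hi).symm y, rfl⟩, ?_⟩
    refine (eX_d A M l n i j hi hj _).trans ?_
    rw [LinearEquiv.apply_symm_apply]

theorem length_homology_neg (l : List A) (n : ℕ) (i : ℤ) (h : i + n = 0) :
    Module.length A ((DRing.tensorCx (Koszul.koszul A l) (ModuleCat.of A M)).homology i) = hl A M l n := by
  let C := DRing.tensorCx (Koszul.koszul A l) (ModuleCat.of A M)
  change Module.length A (C.homology i) = _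
  rw [(C.homologyIsoSc' (i - 1) i (i + 1) (by simp) (by simp)).toLinearEquiv.length_eq, length_homology]
  change relLen (LinearMap.range (C.d (i - 1) i).hom) (LinearMap.ker (C.d i (i + 1)).hom) = _
  rw [← relLen_map_injective (eX A M l n i h).toLinearMap (eX A M l n i h).injective,
    range_d A M l n (i - 1) i (by omega) h]
  refine congrArg (relLen (Bd A M l n)) ?_
  cases n with
  | zero =>
    have : LinearMap.ker (C.d i (i + 1)).hom = ⊤ := by
      haveI := ModuleCat.subsingleton_of_isZero (isZero_X A M l (i + 1) (by omega))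
      exact LinearMap.ker_eq_top.2 (LinearMap.ext fun _ => Subsingleton.elim _ _)
    rw [this, Submodule.map_top, LinearEquiv.range]
    rfl
  | succ n =>
    refine le_antisymm ?_ ?_
    · rintro _ ⟨x, hx, rfl⟩
      refine LinearMap.mem_ker.2 ((eX_d A M l n i (i + 1) h (by omega) x).symm.trans ?_)
      rw [LinearMap.mem_ker.1 hx, map_zero]
    · intro y hy
      refine ⟨(eX A M l (n + 1) i h).symm y, LinearMap.mem_ker.2 ((eX A M l n (i + 1) (by omega)).injective ?_),
        LinearEquiv.apply_symm_apply _ _⟩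
      refine (eX_d A M l n i (i + 1) h (by omega) _).trans ?_
      rw [LinearEquiv.apply_symm_apply, LinearMap.mem_ker.1 hy, map_zero]

theorem length_homology_pos (l : List A) (i : ℤ) (h : 0 < i) :
    Module.length A ((DRing.tensorCx (Koszul.koszul A l) (ModuleCat.of A M)).homology i) = 0 :=
  Module.length_eq_zero_iff.2 (ModuleCat.subsingleton_of_isZero
    ((HomologicalComplex.exactAt_iff_isZero_homology _ _).1 (ShortComplex.exact_of_isZero_X₂ _ (isZero_X A M l i h))))

theorem finsum_eq_chi (l : List A) :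
    (∑ᶠ i : ℤ, ((i.negOnePow : ℤˣ) : ℤ) *
      ((Module.length A ((DRing.tensorCx (Koszul.koszul A l) (ModuleCat.of A M)).homology i)).toNat : ℤ)) =
      chi A M l := by
  set F : ℤ → ℤ := fun i => ((i.negOnePow : ℤˣ) : ℤ) *
    ((Module.length A ((DRing.tensorCx (Koszul.koszul A l) (ModuleCat.of A M)).homology i)).toNat : ℤ) with hF
  let e : ℕ ↪ ℤ := ⟨fun n => -(n : ℤ), fun a b hab => by simpa using hab⟩
  rw [finsum_eq_sum_of_support_subset F (s := (Finset.range (l.length + 1)).map e) fun i hi => ?_, Finset.sum_map]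
  · refine Finset.sum_congr rfl fun n _ => ?_
    simp only [hF, e, Function.Embedding.coeFn_mk]
    rw [length_homology_neg A M l n (-(n : ℤ)) (by omega)]
    congr 1
    rw [Int.negOnePow_neg, Int.negOnePow_def, zpow_natCast]
    simp
  · rcases lt_or_ge 0 i with hp | hp
    · exact absurd (by simp [hF, length_homology_pos A M l i hp]) hi
    · obtain ⟨n, rfl⟩ : ∃ n : ℕ, i = -(n : ℤ) := ⟨(-i).toNat, by omega⟩
      rcases lt_or_ge l.length n with hn | hn
      · exact absurd (by simp [hF, length_homology_neg A M l n (-(n : ℤ)) (by omega),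
          hl_eq_zero_of_lt A M l hn]) hi
      · exact Finset.mem_coe.2 (Finset.mem_map.2 ⟨n, Finset.mem_range.2 (by omega), rfl⟩)

theorem FL_ofFn_iff [IsNoetherianRing A] [Module.Finite A M] {k : ℕ} (x : Fin k → A) :
    IsFiniteLength A (M ⧸ (Ideal.span (Set.range x) • (⊤ : Submodule A M))) ↔ FL A M (List.ofFn x) := by
  rw [FL_iff]
  have : Ideal.ofList (List.ofFn x) = Ideal.span (Set.range x) := by
    rw [Ideal.ofList]
    congr 1
    ext a
    simp [List.mem_ofFn]
  rw [this]

end Groth.Agent.KEuler6
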