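import Mathlib
import Groth.Prelude.Def_DRing2
import Groth.Agent.Lib.KEuler6.Bridge
import Groth.Agent.Lib.CI2.Ops
import Groth.Agent.Lib.CI2.NodeRes
import Groth.Agent.Lib.TorBal27.Balance

/-!
`Tor` against the quotient by a weakly regular sequence is computed by the Koszul complex.
-/

set_option autoImplicit false
universe u

set_option backward.isDefEq.respectTransparency.types false

open CategoryTheory CategoryTheory.Limits MonoidalCategory TensorProduct
open Groth.Agent.CanElt (KObj kd k0 lmap lmap_kd)
open Groth.Agent.HilbSam (relLen)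

namespace Groth.Agent.KEuler6

variable (A : Type u) [CommRing A]

/-- The Koszul complex as a chain complex. -/
noncomputable def kC (l : List A) : ChainComplex (ModuleCat.{u} A) ℕ :=
  ChainComplex.of (fun n => KObj A A l n) (fun n => ModuleCat.ofHom (kd A A l n))
    (fun n => ModuleCat.hom_ext (LinearMap.ext fun z => CanElt.kd_kd A A l n z))

theorem kC_d (l : List A) (n : ℕ) : (kC A l).d (n + 1) n = ModuleCat.ofHom (kd A A l n) :=
  (ChainComplex.of_d (fun k => KObj A A l k) (fun k => ModuleCat.ofHom (kd A A l k)) n :)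

/-- The Koszul complex of a weakly regular sequence is a projective resolution of the quotient. -/
noncomputable def koszulRes (l : List A) (h : RingTheory.Sequence.IsWeaklyRegular A l) (I : Ideal A)
    (hI : I = Ideal.ofList l) : ProjectiveResolution (ModuleCat.of A (A ⧸ I)) :=
  let π : KObj A A l 0 →ₗ[A] A ⧸ I := I.mkQ ∘ₗ (k0 A A l).toLinearMap
  have hπd : Function.Exact (kd A A l 0) π := fun v => by
    show Submodule.Quotient.mk (k0 A A l v) = (0 : A ⧸ I) ↔ v ∈ LinearMap.range (kd A A l 0)
    rw [Submodule.Quotient.mk_eq_zero, CanElt.mem_range_kd_zero, hI, smul_eq_mul, Ideal.mul_top]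
  { complex := kC A l
    projective := fun i => (IsProjective.iff_projective (R := A) (KObj A A l i)).1 (CanElt.projective_KObj A A l i)
    π := ((kC A l).toSingle₀Equiv _).symm ⟨ModuleCat.ofHom π, by
      rw [kC_d]; exact ModuleCat.hom_ext hπd.linearMap_comp_eq_zero⟩
    quasiIso := by
      rw [quasiIso_iff]
      intro i
      cases i with
      | zero =>
        rw [quasiIsoAt_iff_isIso_homologyMap, ConcreteCategory.isIso_iff_bijective]
        refine DMod.homologyMap_bijective_of _ (ChainComplex.prev ℕ 0) ChainComplex.next_nat_zero ?_ ?_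
        · intro x _
          obtain ⟨r, hr⟩ := I.mkQ_surjective x
          refine ⟨(k0 A A l).symm r, 0, by simp, ?_⟩
          rw [ChainComplex.toSingle₀Equiv_symm_apply_f_zero, map_zero, add_zero]
          refine Eq.trans ?_ hr
          show I.mkQ (k0 A A l ((k0 A A l).symm r)) = _
          rw [LinearEquiv.apply_symm_apply]
        · intro w y _ hy
          rw [ChainComplex.toSingle₀Equiv_symm_apply_f_zero] at hy
          have hw : π w = 0 := by
            refine hy.symm.trans ?_
            simp only [HomologicalComplex.single_obj_d]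
            rfl
          obtain ⟨v, hv⟩ := (hπd w).1 hw
          exact ⟨v, by rw [kC_d]; exact hv⟩
      | succ i =>
        rw [quasiIsoAt_iff_exactAt' _ _ (ChainComplex.exactAt_succ_single_obj ..), DMod.exactAt_iff_subsingleton,
          DMod.subsingleton_homology_iff (i := i + 2) (k := i) _ (ChainComplex.prev ℕ (i + 1)) (ChainComplex.next_nat_succ i)]
        intro x hx
        rw [kC_d] at hx
        obtain ⟨v, hv⟩ := CI2.ex_of_isWeaklyRegular l A h i x hx
        exact ⟨v, by rw [kC_d]; exact hv⟩ }

variable (M : Type u) [AddCommGroup M] [Module A M]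

/-- `M ⊗ K(l) = K(l; M)` degreewise. -/
noncomputable def tk (l : List A) (n : ℕ) : (M ⊗[A] KObj A A l n) ≃ₗ[A] KObj A M l n :=
  TensorProduct.comm A M (KObj A A l n) ≪≫ₗ te A M l n

theorem tk_kd (l : List A) (n : ℕ) (x : M ⊗[A] KObj A A l (n + 1)) :
    tk A M l n ((kd A A l n).lTensor M x) = kd A M l n (tk A M l (n + 1) x) := by
  suffices h : (tk A M l n).toLinearMap ∘ₗ (kd A A l n).lTensor M =
      kd A M l n ∘ₗ (tk A M l (n + 1)).toLinearMap from LinearMap.congr_fun h x
  exact TensorProduct.ext' fun m z => by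
    change te A M l n (kd A A l n z ⊗ₜ[A] m) = kd A M l n (te A M l (n + 1) (z ⊗ₜ[A] m))
    rw [te_tmul, te_tmul, lmap_kd]

theorem map_range_lTensor (l : List A) (n : ℕ) :
    (LinearMap.range ((kd A A l n).lTensor M)).map (tk A M l n).toLinearMap = Bd A M l n := by
  refine le_antisymm ?_ ?_
  · rintro _ ⟨_, ⟨x, rfl⟩, rfl⟩
    exact ⟨tk A M l (n + 1) x, (tk_kd A M l n x).symm⟩
  · rintro _ ⟨y, rfl⟩
    refine ⟨_, ⟨(tk A M l (n + 1)).symm y, rfl⟩, ?_⟩
    refine (tk_kd A M l n _).trans ?_
    rw [LinearEquiv.apply_symm_apply]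

theorem map_ker_lTensor (l : List A) (n : ℕ) :
    (LinearMap.ker ((kd A A l n).lTensor M)).map (tk A M l (n + 1)).toLinearMap = LinearMap.ker (kd A M l n) := by
  refine le_antisymm ?_ ?_
  · rintro _ ⟨x, hx, rfl⟩
    refine LinearMap.mem_ker.2 ((tk_kd A M l n x).symm.trans ?_)
    rw [LinearMap.mem_ker.1 hx, map_zero]
  · intro y hy
    refine ⟨(tk A M l (n + 1)).symm y, LinearMap.mem_ker.2 ((tk A M l n).injective ?_),
      LinearEquiv.apply_symm_apply _ _⟩
    rw [tk_kd, LinearEquiv.apply_symm_apply, LinearMap.mem_ker.1 hy, map_zero]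

theorem length_tor_right (l : List A) (h : RingTheory.Sequence.IsWeaklyRegular A l) (I : Ideal A)
    (hI : I = Ideal.ofList l) (n : ℕ) :
    Module.length A (DRing.Tor A n M (A ⧸ I)) = hl A M l n := by
  let P := koszulRes A l h I hI
  let F := (tensoringLeft (ModuleCat.{u} A)).obj (ModuleCat.of A M)
  let C := (F.mapHomologicalComplex (ComplexShape.down ℕ)).obj P.complex
  have e : ((Tor (ModuleCat.{u} A) n).obj (ModuleCat.of A M)).obj (ModuleCat.of A (A ⧸ I)) ≅ C.homology n :=
    P.isoLeftDerivedObj F n
  have hd : ∀ k, (C.d (k + 1) k).hom = (kd A A l k).lTensor M := fun k => by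
    show (F.map ((kC A l).d (k + 1) k)).hom = _
    rw [kC_d]
    rfl
  refine e.toLinearEquiv.length_eq.trans ?_
  cases n with
  | zero =>
    rw [(C.homologyIsoSc' 1 0 0 (ChainComplex.prev ℕ 0) ChainComplex.next_nat_zero).toLinearEquiv.length_eq,
      length_homology]
    change relLen (LinearMap.range (C.d (0 + 1) 0).hom) (LinearMap.ker (C.d 0 0).hom) = _
    rw [C.shape 0 0 (by simp), ModuleCat.hom_zero, LinearMap.ker_zero, hd]
    show relLen (LinearMap.range ((kd A A l 0).lTensor M)) (⊤ : Submodule A (M ⊗[A] KObj A A l 0)) = _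
    rw [← relLen_map_injective (tk A M l 0).toLinearMap (tk A M l 0).injective,
      map_range_lTensor, Submodule.map_top, LinearEquiv.range]
    rfl
  | succ n =>
    rw [(C.homologyIsoSc' (n + 1 + 1) (n + 1) n (ChainComplex.prev ℕ (n + 1))
      (ChainComplex.next_nat_succ n)).toLinearEquiv.length_eq, length_homology]
    change relLen (LinearMap.range (C.d (n + 1 + 1) (n + 1)).hom) (LinearMap.ker (C.d (n + 1) n).hom) = _
    rw [hd, hd]
    show relLen (LinearMap.range ((kd A A l (n + 1)).lTensor M)) (LinearMap.ker ((kd A A l n).lTensor M)) = _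
    rw [← relLen_map_injective (tk A M l (n + 1)).toLinearMap (tk A M l (n + 1)).injective,
      map_range_lTensor, map_ker_lTensor]
    rfl

theorem length_tor_left (l : List A) (h : RingTheory.Sequence.IsWeaklyRegular A l) (I : Ideal A)
    (hI : I = Ideal.ofList l) (n : ℕ) :
    Module.length A (DRing.Tor A n (A ⧸ I) M) = hl A M l n := by
  obtain ⟨e⟩ := TorBal27.nonempty_tor_iso_flip (R := A) n
  refine ((e.app (ModuleCat.of A (A ⧸ I))).app (ModuleCat.of A M)).toLinearEquiv.length_eq.trans ?_
  exact length_tor_right A M l h I hI n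

theorem finsum_tor_eq_chi (l : List A) (h : RingTheory.Sequence.IsWeaklyRegular A l) (I : Ideal A)
    (hI : I = Ideal.ofList l) :
    (∑ᶠ i : ℕ, (-1 : ℤ) ^ i * ((Module.length A (DRing.Tor A i (A ⧸ I) M)).toNat : ℤ)) = chi A M l := by
  rw [finsum_eq_sum_of_support_subset _ (s := Finset.range (l.length + 1)) fun i hi => ?_]
  · refine Finset.sum_congr rfl fun n _ => ?_
    rw [length_tor_left A M l h I hI]
  · rw [Finset.coe_range, Set.mem_Iio]
    by_contra hc
    exact hi (by simp [length_tor_left A M l h I hI, hl_eq_zero_of_lt A M l (n := i) (by omega)])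

end Groth.Agent.KEuler6
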