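import Mathlib
import Groth.Agent.Lib.KEuler6.Tor

/-!
`Tor` in the top degree and `Ext` into killed modules for quotients by weakly regular sequences.
-/

set_option autoImplicit false
universe u

set_option backward.isDefEq.respectTransparency.types false

open CategoryTheory CategoryTheory.Limits MonoidalCategory TensorProduct
open Groth.Agent.CanElt (KObj kd k0)

namespace Groth.Agent.KEuler6

variable (A : Type u) [CommRing A] (M : Type u) [AddCommGroup M] [Module A M]

theorem kd_le_smul_top (l : List A) (n : ℕ) (g : KObj A A l n →ₗ[A] M)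
    (hM : Ideal.ofList l • (⊤ : Submodule A M) = ⊥) (z : KObj A A l (n + 1)) : g (kd A A l n z) = 0 := by
  have h := Submodule.mem_map_of_mem (f := g) (CanElt.range_kd_le A A l n ⟨z, rfl⟩)
  rw [Submodule.map_smul''] at h
  have h2 := Submodule.smul_mono le_rfl (le_top : Submodule.map g ⊤ ≤ ⊤) h
  rw [hM, Submodule.mem_bot] at h2
  exact h2

/-- Maps out of the Koszul modules. -/
noncomputable def homK : ∀ (l : List A) (n : ℕ), (KObj A A l n →ₗ[A] M) ≃ₗ[A] (Fin (l.length.choose n) → M)
  | [], 0 => LinearMap.ringLmapEquivSelf A A M ≪≫ₗ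
      (LinearEquiv.funUnique (Fin 1) A M).symm ≪≫ₗ LinearEquiv.funCongrLeft A M (finCongr (Nat.choose_self 0))
  | [], n + 1 =>
    haveI : Subsingleton (KObj A A ([] : List A) (n + 1) →ₗ[A] M) := ⟨fun f g => LinearMap.ext fun x => by
      haveI : Subsingleton (KObj A A ([] : List A) (n + 1)) := inferInstanceAs (Subsingleton PUnit)
      rw [Subsingleton.elim x 0, map_zero, map_zero]⟩
    haveI : IsEmpty (Fin ((List.length ([] : List A)).choose (n + 1))) := inferInstanceAs (IsEmpty (Fin 0))
    LinearEquiv.ofSubsingleton _ _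
  | _ :: l, 0 => homK l 0 ≪≫ₗ LinearEquiv.funCongrLeft A M (finCongr (by simp))
  | _ :: l, n + 1 =>
    ((LinearMap.coprodEquiv A).symm ≪≫ₗ (homK l (n + 1)).prodCongr (homK l n) ≪≫ₗ
      (LinearEquiv.sumArrowLequivProdArrow _ _ A M).symm ≪≫ₗ
      LinearEquiv.funCongrLeft A M ((finCongr (by rw [List.length_cons, Nat.choose_succ_succ, add_comm])).trans
        finSumFinEquiv.symm))

theorem nonempty_ext_equiv (l : List A) (h : RingTheory.Sequence.IsWeaklyRegular A l)
    (hM : Ideal.ofList l • (⊤ : Submodule A M) = ⊥) (i : ℕ) :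
    Nonempty (Abelian.Ext (ModuleCat.of A (A ⧸ Ideal.ofList l)) (ModuleCat.of A M) i ≃ₗ[A]
      (Fin (l.length.choose i) → M)) := by
  obtain rfl | ⟨p, rfl⟩ : i = 0 ∨ ∃ p, i = p + 1 := by
    rcases i with - | p
    exacts [Or.inl rfl, Or.inr ⟨p, rfl⟩]
  · have hk : ∀ m : M, Ideal.ofList l ≤ LinearMap.ker (LinearMap.toSpanSingleton A M m) := fun m x hx => by
      have h2 : x • m ∈ Ideal.ofList l • (⊤ : Submodule A M) := Submodule.smul_mem_smul hx Submodule.mem_top
      rw [hM, Submodule.mem_bot] at h2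
      exact h2
    let e : ((A ⧸ Ideal.ofList l) →ₗ[A] M) ≃ₗ[A] M :=
      { toFun := fun f => f (Submodule.Quotient.mk 1)
        map_add' := fun _ _ => rfl
        map_smul' := fun _ _ => rfl
        invFun := fun m => Submodule.liftQ (Ideal.ofList l : Submodule A A) (LinearMap.toSpanSingleton A M m) (hk m)
        left_inv := fun f => LinearMap.ext fun z => by
          obtain ⟨a, rfl⟩ := Submodule.Quotient.mk_surjective _ z
          rw [Submodule.liftQ_apply, LinearMap.toSpanSingleton_apply, ← map_smul, ← Submodule.Quotient.mk_smul, smul_eq_mul,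
            mul_one]
        right_inv := fun m => by
          show Submodule.liftQ _ _ _ (Submodule.Quotient.mk 1) = m
          rw [Submodule.liftQ_apply, LinearMap.toSpanSingleton_apply, one_smul] }
    exact ⟨Abelian.Ext.linearEquiv₀ ≪≫ₗ ModuleCat.homLinearEquiv ≪≫ₗ e ≪≫ₗ (LinearEquiv.funUnique (Fin 1) A M).symm ≪≫ₗ
      LinearEquiv.funCongrLeft A M (finCongr (Nat.choose_zero_right _))⟩
  let R := koszulRes A l h (Ideal.ofList l) rfl
  have hcyc : ∀ f : R.complex.X (p + 1) ⟶ ModuleCat.of A M, R.complex.d (p + 1 + 1) (p + 1) ≫ f = 0 := fun f => by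
    show (kC A l).d (p + 1 + 1) (p + 1) ≫ f = 0
    rw [kC_d]
    exact ModuleCat.hom_ext (LinearMap.ext fun z => kd_le_smul_top A M l (p + 1) f.hom hM z)
  let φ : (R.complex.X (p + 1) ⟶ ModuleCat.of A M) →ₗ[A]
      Abelian.Ext (ModuleCat.of A (A ⧸ Ideal.ofList l)) (ModuleCat.of A M) (p + 1) :=
    { toFun := fun f => R.extMk f (p + 1 + 1) rfl (hcyc f)
      map_add' := fun f g => (R.add_extMk f g (p + 1 + 1) rfl (hcyc f) (hcyc g)).symm
      map_smul' := fun r f => by
        have e : R.extMk (f ≫ (r • 𝟙 (ModuleCat.of A M))) (p + 1 + 1) rfl (hcyc _) =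
            r • R.extMk f (p + 1 + 1) rfl (hcyc f) := by
          rw [← R.extMk_comp_mk₀ f (p + 1 + 1) rfl (hcyc f) (r • 𝟙 (ModuleCat.of A M)), Abelian.Ext.mk₀_smul,
            Abelian.Ext.comp_smul, Abelian.Ext.comp_mk₀_id]
        rw [RingHom.id_apply, ← e]
        congr 1 }
  have hinj : Function.Injective φ := (injective_iff_map_eq_zero φ).2 fun f hf => by
    obtain ⟨g, hg⟩ := (R.extMk_eq_zero_iff f (p + 1 + 1) rfl (hcyc f) p rfl).1 hf
    rw [← hg]
    show (kC A l).d (p + 1) p ≫ g = 0
    rw [kC_d]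
    exact ModuleCat.hom_ext (LinearMap.ext fun z => kd_le_smul_top A M l p g.hom hM z)
  have hsur : Function.Surjective φ := fun α => by
    obtain ⟨f, hf, rfl⟩ := R.extMk_surjective α (p + 1 + 1) rfl
    exact ⟨f, rfl⟩
  exact ⟨(LinearEquiv.ofBijective φ ⟨hinj, hsur⟩).symm ≪≫ₗ ModuleCat.homLinearEquiv ≪≫ₗ homK A M l (p + 1)⟩

theorem kd_top_eq_zero_iff : ∀ (l : List A) (f : A) (z : KObj A M (f :: l) (l.length + 1)),
    kd A M (f :: l) l.length z = 0 ↔ ∀ r ∈ f :: l, r • CanElt.top A M (f :: l) z = 0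
  | [], f, (a, b) => by
    haveI : Subsingleton (KObj A M ([] : List A) (List.length ([] : List A) + 1)) :=
      CanElt.subsingleton_KObj A M [] _ (Nat.lt_succ_self _)
    rw [Subsingleton.elim a 0]
    show kd A M ([] : List A) 0 0 + f • b = 0 ↔ ∀ r ∈ [f], r • b = 0
    rw [map_zero, zero_add]
    simp only [List.mem_singleton, forall_eq]
  | g :: l, f, (a, b) => by
    haveI : Subsingleton (KObj A M (g :: l) ((g :: l).length + 1)) :=
      CanElt.subsingleton_KObj A M _ _ (Nat.lt_succ_self _)
    rw [Subsingleton.elim a 0]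
    show ((kd A M (g :: l) (l.length + 1) 0 + f • b, -kd A M (g :: l) l.length b) :
        KObj A M (g :: l) (l.length + 1) × KObj A M (g :: l) l.length) = 0 ↔
      ∀ r ∈ f :: g :: l, r • CanElt.top A M (g :: l) b = 0
    rw [Prod.mk_eq_zero, map_zero, zero_add, neg_eq_zero, kd_top_eq_zero_iff l g b, List.forall_mem_cons (a := f),
      ← map_smul, LinearEquiv.map_eq_zero_iff]

theorem forall_smul_eq_zero_iff (l : List A) (m : M) :
    (∀ r ∈ l, r • m = 0) ↔ Ideal.ofList l ≤ LinearMap.ker (LinearMap.toSpanSingleton A M m) :=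
  ⟨fun h => Ideal.span_le.2 fun r hr => h r hr, fun h r hr => h (Ideal.subset_span hr)⟩

/-- The elements killed by the sequence. -/
def killedSub (l : List A) : Submodule A M where
  carrier := {m | ∀ r ∈ l, r • m = 0}
  add_mem' ha hb r hr := by rw [smul_add, ha r hr, hb r hr, add_zero]
  zero_mem' r _ := smul_zero r
  smul_mem' c m hm r hr := by rw [smul_comm, hm r hr, smul_zero]

/-- Maps out of the quotient are the elements killed by the sequence. -/
noncomputable def killedEquiv (l : List A) : ((A ⧸ Ideal.ofList l) →ₗ[A] M) ≃ₗ[A] killedSub A M l where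
  toFun f := ⟨f (Submodule.Quotient.mk 1), fun r hr => by
    rw [← map_smul, ← Submodule.Quotient.mk_smul, smul_eq_mul, mul_one,
      (Submodule.Quotient.mk_eq_zero _).2 (Ideal.subset_span hr : r ∈ Ideal.ofList l), map_zero]⟩
  map_add' _ _ := rfl
  map_smul' _ _ := rfl
  invFun m := Submodule.liftQ (Ideal.ofList l : Submodule A A) (LinearMap.toSpanSingleton A M m.1)
    ((forall_smul_eq_zero_iff A M l m.1).1 m.2)
  left_inv f := LinearMap.ext fun z => by
    obtain ⟨a, rfl⟩ := Submodule.Quotient.mk_surjective _ z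
    rw [Submodule.liftQ_apply, LinearMap.toSpanSingleton_apply, ← map_smul, ← Submodule.Quotient.mk_smul, smul_eq_mul,
      mul_one]
  right_inv m := Subtype.ext (by
    show Submodule.liftQ _ _ _ (Submodule.Quotient.mk 1) = m.1
    rw [Submodule.liftQ_apply, LinearMap.toSpanSingleton_apply, one_smul])

theorem nonempty_tor_top (l : List A) (h : RingTheory.Sequence.IsWeaklyRegular A l) :
    Nonempty (↑(((Tor' (ModuleCat.{u} A) l.length).obj (ModuleCat.of A (A ⧸ Ideal.ofList l))).obj (ModuleCat.of A M))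
      ≃ₗ[A] ((A ⧸ Ideal.ofList l) →ₗ[A] M)) := by
  let P := koszulRes A l h (Ideal.ofList l) rfl
  let F := (tensoringRight (ModuleCat.{u} A)).obj (ModuleCat.of A M)
  let C := (F.mapHomologicalComplex (ComplexShape.down ℕ)).obj P.complex
  have e : ((Tor' (ModuleCat.{u} A) l.length).obj (ModuleCat.of A (A ⧸ Ideal.ofList l))).obj (ModuleCat.of A M) ≅
      C.homology l.length := P.isoLeftDerivedObj F l.length
  suffices H : Nonempty ((C.homology l.length) ≃ₗ[A] killedSub A M l) by
    obtain ⟨H⟩ := H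
    exact ⟨e.toLinearEquiv ≪≫ₗ H ≪≫ₗ (killedEquiv A M l).symm⟩
  have hd : ∀ k, (C.d (k + 1) k).hom = (kd A A l k).rTensor M := fun k => by
    show (F.map ((kC A l).d (k + 1) k)).hom = _
    rw [kC_d]
    rfl
  have hkd : ∀ (k : ℕ) (x : KObj A A l (k + 1) ⊗[A] M),
      te A M l k ((kd A A l k).rTensor M x) = kd A M l k (te A M l (k + 1) x) := fun k x => by
    suffices h : (te A M l k).toLinearMap ∘ₗ (kd A A l k).rTensor M =
        kd A M l k ∘ₗ (te A M l (k + 1)).toLinearMap from LinearMap.congr_fun h x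
    exact TensorProduct.ext' fun z m => by
      change te A M l k (kd A A l k z ⊗ₜ[A] m) = kd A M l k (te A M l (k + 1) (z ⊗ₜ[A] m))
      rw [te_tmul, te_tmul, CanElt.lmap_kd]
  cases l with
  | nil =>
    haveI : Subsingleton (KObj A A ([] : List A) 1) := CanElt.subsingleton_KObj A A [] 1 Nat.one_pos
    have hd0 : C.d 1 0 = 0 := ModuleCat.hom_ext (by
      rw [hd 0, show kd A A ([] : List A) 0 = 0 from LinearMap.ext fun x => by rw [Subsingleton.elim x 0]; simp,
        LinearMap.rTensor_zero]
      rfl)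
    refine ⟨(HomologicalComplex.isoHomologyπ C 1 0 (ChainComplex.prev ℕ 0) hd0).symm.toLinearEquiv ≪≫ₗ
      (C.iCyclesIso 0 0 ChainComplex.next_nat_zero (C.shape 0 0 (by simp))).toLinearEquiv ≪≫ₗ
      te A M [] 0 ≪≫ₗ k0 A M [] ≪≫ₗ ?_⟩
    exact (LinearEquiv.ofTop (killedSub A M []) (eq_top_iff.2 fun m _ r hr => by simp at hr)).symm
  | cons f l =>
    have hkd' : ∀ x : C.X (l.length + 1), te A M (f :: l) l.length ((C.d (l.length + 1) l.length).hom x) =
        kd A M (f :: l) l.length (te A M (f :: l) (l.length + 1) x) := fun x =>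
      (congrArg (te A M (f :: l) l.length) (LinearMap.congr_fun (hd l.length) x)).trans (hkd l.length x)
    haveI : Subsingleton (KObj A A (f :: l) (l.length + 1 + 1)) :=
      CanElt.subsingleton_KObj A A (f :: l) _ (Nat.lt_succ_self _)
    refine ⟨(C.homologyIsoSc' (l.length + 1 + 1) (l.length + 1) l.length (ChainComplex.prev ℕ (l.length + 1))
      (ChainComplex.next_nat_succ l.length)).toLinearEquiv ≪≫ₗ
      (ShortComplex.moduleCatHomologyIso _).toLinearEquiv ≪≫ₗ ?_⟩
    refine Submodule.quotEquivOfEqBot _ ?_ ≪≫ₗ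
      (te A M (f :: l) (l.length + 1)).ofSubmodules _ (LinearMap.ker (kd A M (f :: l) l.length)) ?_ ≪≫ₗ
      (CanElt.top A M (f :: l)).ofSubmodules _ (killedSub A M (f :: l)) ?_
    · refine LinearMap.range_eq_bot.2 (LinearMap.ext fun x => Subtype.ext ?_)
      show (C.d (l.length + 1 + 1) (l.length + 1)).hom x = 0
      rw [hd, show kd A A (f :: l) (l.length + 1) = 0 from LinearMap.ext fun x => by rw [Subsingleton.elim x 0]; simp,
        LinearMap.rTensor_zero]
      rfl
    · ext y
      constructor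
      · rintro ⟨x, hx, rfl⟩
        have hx' : (C.d (l.length + 1) l.length).hom x = 0 := LinearMap.mem_ker.1 hx
        refine LinearMap.mem_ker.2 ((hkd' x).symm.trans ?_)
        exact (congrArg (te A M (f :: l) l.length) hx').trans (te A M (f :: l) l.length).map_zero
      · intro hy
        refine ⟨(te A M (f :: l) (l.length + 1)).symm y, ?_, LinearEquiv.apply_symm_apply _ _⟩
        show (C.d (l.length + 1) l.length).hom _ = 0
        refine (te A M (f :: l) l.length).injective ?_
        refine (hkd' _).trans ?_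
        refine Eq.trans ?_ (map_zero _).symm
        exact (congrArg _ (LinearEquiv.apply_symm_apply _ y)).trans (LinearMap.mem_ker.1 hy)
    · ext m
      constructor
      · rintro ⟨z, hz, rfl⟩
        exact (kd_top_eq_zero_iff A M l f z).1 hz
      · intro hm
        refine ⟨(CanElt.top A M (f :: l)).symm m, ?_, LinearEquiv.apply_symm_apply _ _⟩
        exact (kd_top_eq_zero_iff A M l f _).2 (fun r hr => by rw [LinearEquiv.apply_symm_apply]; exact hm r hr)

end Groth.Agent.KEuler6
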